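import Mathlib
import Cfsg.Agent.H352.L43.Rep

/-!
# `A = Q ∩ R` is normalized by `C_G(Z)`, which is transitive on `A \ Z` (helper352)
-/

set_option autoImplicit false

namespace Cfsg.Agent.H352.L43

open scoped commutatorElement IsMulCommutative
open Subgroup

variable {G : Type*} [Group G] {Z Q Y R : Subgroup G}

/-- the image of `K ∩ Q` in the module -/
def barS (Q K : Subgroup G) : AddSubgroup (MM Q) :=
  Subgroup.toAddSubgroup ((K.subgroupOf Q).map Abelianization.of)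

theorem mem_barS {K : Subgroup G} {x : MM Q} : x ∈ barS Q K ↔ ∃ a : ↥Q, (a : G) ∈ K ∧ bar a = x := Iff.rfl

theorem Cfg.bar_mem_barS (h : Cfg Z Q) {K : Subgroup G} (hZK : Z ≤ K) (a : ↥Q) : bar a ∈ barS Q K ↔ (a : G) ∈ K := by
  rw [mem_barS]
  constructor
  · rintro ⟨b, hb, hba⟩
    have h1 := (h.bar_eq_iff a b).1 hba.symm
    have h2 := K.mul_mem (hZK h1) hb
    rwa [inv_mul_cancel_right] at h2
  · intro ha
    exact ⟨a, ha, rfl⟩

theorem Cfg.card_barS (h : Cfg Z Q) {K : Subgroup G} (hZK : Z ≤ K) (hKQ : K ≤ Q) :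
    3 * Nat.card ↥(barS Q K) = Nat.card ↥K := by
  have h1 : Nat.card ↥(barS Q K) = Nat.card ↥((K.subgroupOf Q).map Abelianization.of) := rfl
  rw [h1, ← Subgroup.relIndex_ker, Abelianization.ker_of, h.commutator_eq, h.center_eq,
    Subgroup.relIndex_subgroupOf hKQ, ← h.cardZ]
  have h2 := Subgroup.relIndex_mul_relIndex (⊥ : Subgroup G) Z K bot_le hZK
  rwa [Subgroup.relIndex_bot_left, Subgroup.relIndex_bot_left] at h2

theorem Cfg.exists_shift (h : Cfg Z Q) {y : G} (hy : y ∈ Q) (hyZ : y ∉ Z) {z : G} (hz : z ∈ Z) :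
    ∃ q ∈ Q, q * y * q⁻¹ = z * y := by
  obtain ⟨q, hq, hqy⟩ : ∃ q ∈ Q, y * q ≠ q * y := by
    by_contra hcon
    push Not at hcon
    exact hyZ (h.cen y hy hcon)
  have h1 := h.comm q hq y hy
  have h2 : q * y * q⁻¹ * y⁻¹ ≠ 1 := by
    intro h3
    apply hqy
    have h4 : q * y * q⁻¹ = y := by
      have := congrArg (· * y) h3
      simpa using this
    calc y * q = q * y * q⁻¹ * q := by rw [h4]
      _ = q * y := by group
  by_cases hz1 : z = 1
  · exact ⟨1, Q.one_mem, by rw [hz1]; group⟩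
  rcases Two.eq_or_inv h.cardZ h1 hz h2 hz1 with h3 | h3
  · exact ⟨q, hq, by rw [← h3]; group⟩
  · refine ⟨q⁻¹, Q.inv_mem hq, ?_⟩
    have h4 : q * y * q⁻¹ = z⁻¹ * y := by rw [← h3]; group
    have h5 : z * q = q * z := Subgroup.mem_centralizer_iff.1 (h.leC hq) z hz
    have h6 : q⁻¹ * z⁻¹ = z⁻¹ * q⁻¹ := by rw [← mul_inv_rev, ← mul_inv_rev, h5]
    have h7 : y = q⁻¹ * (z⁻¹ * y) * q := by rw [← h4]; group
    have h8 : y = z⁻¹ * (q⁻¹ * y * q⁻¹⁻¹) := by
      calc y = q⁻¹ * (z⁻¹ * y) * q := h7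
        _ = (q⁻¹ * z⁻¹) * y * q := by group
        _ = z⁻¹ * (q⁻¹ * y * q⁻¹⁻¹) := by rw [h6]; group
    calc q⁻¹ * y * q⁻¹⁻¹ = z * (z⁻¹ * (q⁻¹ * y * q⁻¹⁻¹)) := by group
      _ = z * y := by rw [← h8]

/-- adjust `π` by an inner automorphism -/
theorem exists_pi {h : Cfg Z Q} {π : ↥(centralizer (Z : Set G)) →* S3} (hπ : Cov Z Q π) (hg : Good h π)
    {K : Subgroup G} {d : ↥(centralizer (Z : Set G))} (hdK : (d : G) ∈ K) (hd : (d : G) ∉ Q) (hd3 : d * d * d = 1) :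
    ∃ (π' : ↥(centralizer (Z : Set G)) →* S3), Cov Z Q π' ∧ Good h π' ∧
      ∃ d' : ↥(centralizer (Z : Set G)), (d' : G) ∈ K ∧ (d' : G) ∉ Q ∧ π' d' = u0 := by
  obtain ⟨g, hgu⟩ := conj_u (π d) (fun h1 => hd ((hπ.ker d).1 h1)) (by rw [← map_mul, ← map_mul, hd3, map_one])
  have hcov : Cov Z Q ((MulAut.conj g).toMonoidHom.comp π) := by
    refine ⟨(MulAut.conj g).surjective.comp hπ.surj, ?_⟩
    intro c
    rw [← hπ.ker c]
    show MulAut.conj g (π c) = 1 ↔ π c = 1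
    exact map_eq_one_iff _ (MulAut.conj g).injective
  have hgood : Good h ((MulAut.conj g).toMonoidHom.comp π) := by
    refine ⟨?_, hg.W⟩
    intro c hc
    apply hg.neg
    have hc' : g * π c * g⁻¹ = -1 := hc
    calc π c = g⁻¹ * (g * π c * g⁻¹) * g := by group
      _ = -1 := by rw [hc']; simp
  rcases hgu with h1 | h1
  · exact ⟨_, hcov, hgood, d, hdK, hd, h1⟩
  · refine ⟨_, hcov, hgood, d⁻¹, K.inv_mem hdK, fun h2 => hd (by simpa using Q.inv_mem h2), ?_⟩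
    show g * π d⁻¹ * g⁻¹ = u0
    rw [map_inv]; exact h1

theorem Tau.mem_normalizer (t : Two Z Q Y R) {τ : G} (h : Two.Tau Z Q Y R τ) : τ ∈ normalizer (Q : Set G) := by
  rw [Subgroup.mem_normalizer_iff]
  intro q
  constructor
  · intro hq; exact h.normQ t hq
  · intro hq
    have h1 := t.h.normZ τ⁻¹ ?_ _ hq
    · have e : τ⁻¹ * (τ * q * τ⁻¹) * τ⁻¹⁻¹ = q := by group
      rwa [e] at h1
    · intro z hz
      have h2 := h.zinv z hz
      have h3 : τ⁻¹ * z * τ⁻¹⁻¹ = z⁻¹ := by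
        have h4 := h.zinv z⁻¹ (Z.inv_mem hz)
        rw [inv_inv] at h4
        calc τ⁻¹ * z * τ⁻¹⁻¹ = τ⁻¹ * (τ * z⁻¹ * τ⁻¹) * τ := by rw [h4, inv_inv]
          _ = z⁻¹ := by group
      rw [h3]; exact Z.inv_mem hz

/-- **`A = Q ∩ R` is normalized by `C_G(Z)`, which is transitive on `A \ Z`.** -/
theorem core (t : Two Z Q Y R) {π : ↥(centralizer (Z : Set G)) →* S3} (hπ : Cov Z Q π) (hg : Good t.h π) :
    (∀ c ∈ centralizer (Z : Set G), ∀ a ∈ Q ⊓ R, c * a * c⁻¹ ∈ Q ⊓ R) ∧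
    ∃ y ∈ Y, y ≠ 1 ∧ ∀ a ∈ Q ⊓ R, a ∉ Z → ∃ c ∈ centralizer (Z : Set G), c * y * c⁻¹ = a := by
  have h := t.h
  -- the element `d`
  obtain ⟨d0, hd0, hd0Q⟩ := SetLike.not_le_iff_exists.1 t.symm.not_le
  obtain ⟨π', hπ', hg', d, hdR, hdQ, hdu⟩ := exists_pi hπ hg (K := R) (d := ⟨d0, hd0.2⟩) hd0.1 hd0Q
    (Subtype.ext (t.h'.exp d0 hd0.1))
  -- `m` and `y`
  obtain ⟨m, hmA, hdm⟩ : ∃ m ∈ Q ⊓ R, (d : G) * m ≠ m * d := by
    by_contra hcon
    push Not at hcon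
    exact hdQ (t.symm.cent_A hdR (fun a ha => hcon a ⟨ha.2, ha.1⟩)).2
  set y : G := d * m * (d : G)⁻¹ * m⁻¹ with hy_def
  have hyY : y ∈ Y := t.h'.comm d hdR m hmA.2
  have hy1 : y ≠ 1 := by
    intro h1
    apply hdm
    have h2 : (d : G) * m * (d : G)⁻¹ = m := by
      have := congrArg (· * m) h1
      simpa [hy_def] using this
    calc (d : G) * m = d * m * (d : G)⁻¹ * d := by group
      _ = m * d := by rw [h2]
  have hdmy : (d : G) * m * (d : G)⁻¹ = y * m := by rw [hy_def]; group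
  clear_value y
  have hyQ : y ∈ Q := t.YQ hyY
  have hyA : y ∈ Q ⊓ R := t.Y_le_A hyY
  have hyZ : y ∉ Z := t.notMem hyY hy1
  -- operators
  set I := h.rho hπ' i0 with hI
  set J := h.rho hπ' j0 with hJ
  set U := h.rho hπ' u0 with hU
  have hops : Ops I J U := h.ops hπ' hg'.neg
  have hform : Form I J U h.form := h.isForm hπ'
  have hUeq : U = 1 + Ops.s I J := hg'.U_eq hπ'
  set b : MM Q := bar ⟨y, hyQ⟩ with hb
  have hUd : U = h.actC d := by rw [hU, ← hdu, h.rho_pi hπ']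
  have hdy : (d : G) * y * (d : G)⁻¹ = y := by
    have := Subgroup.mem_centralizer_iff.1 (t.h'.leC hdR) y hyY
    rw [← this]; group
  have hUb : U b = b := by
    rw [hUd, hb]; exact h.actC_bar d _ _ hdy.symm
  have hUm : U (bar ⟨m, hmA.1⟩) = bar ⟨m, hmA.1⟩ + b := by
    rw [hUd, h.actC_bar d ⟨m, hmA.1⟩ (⟨y, hyQ⟩ * ⟨m, hmA.1⟩) hdmy.symm, bar_mul, add_comm]
  have hbm : h.form b (bar ⟨m, hmA.1⟩) = 0 := by
    rw [hb, h.form_bar_eq_zero]; exact t.comm_A hyA hmA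
  have hiso : h.form b (I b) = 0 := hform.iso hops hUeq hUb hUm hbm
  have hJb := hops.J_fix hUeq hUb
  have hKb := hops.IJ_fix hUeq hUb
  have hUIb := hops.U_Ib hUeq hUb
  have hb0 : b ≠ 0 := by
    intro h0; rw [hb, h.bar_eq_zero_iff] at h0; exact hyZ h0
  have h3 := h.three_M
  have h3z : ∀ x : MM Q, (3 : ℤ) • x = 0 := by intro x; rw [← h3 x]; abel
  -- the invariant subgroup `W = ⟨b, I b⟩`
  let W : AddSubgroup (MM Q) := AddSubgroup.zmultiples b ⊔ AddSubgroup.zmultiples (I b)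
  have hWm : ∀ x, x ∈ W ↔ ∃ k l : ℤ, x = k • b + l • I b := by
    intro x
    constructor
    · intro hx
      obtain ⟨u, hu, v, hv, rfl⟩ := AddSubgroup.mem_sup.1 hx
      obtain ⟨k, rfl⟩ := AddSubgroup.mem_zmultiples_iff.1 hu
      obtain ⟨l, rfl⟩ := AddSubgroup.mem_zmultiples_iff.1 hv
      exact ⟨k, l, rfl⟩
    · rintro ⟨k, l, rfl⟩
      exact AddSubgroup.add_mem_sup (AddSubgroup.zsmul_mem_zmultiples b k) (AddSubgroup.zsmul_mem_zmultiples (I b) l)
  have hWI : ∀ x ∈ W, I x ∈ W := by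
    intro x hx
    obtain ⟨k, l, rfl⟩ := (hWm x).1 hx
    rw [hWm]
    refine ⟨-l, k, ?_⟩
    rw [map_add, map_zsmul, map_zsmul, hops.II']; simp only [smul_neg, neg_smul]; abel
  have hWJ : ∀ x ∈ W, J x ∈ W := by
    intro x hx
    obtain ⟨k, l, rfl⟩ := (hWm x).1 hx
    rw [hWm]
    refine ⟨k + l, k - l, ?_⟩
    rw [map_add, map_zsmul, map_zsmul, hops.JI', hJb, map_add, hops.II']
    simp only [smul_neg, smul_add, add_smul, sub_smul]; abel
  have hWU : ∀ x ∈ W, U x ∈ W := by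
    intro x hx
    obtain ⟨k, l, rfl⟩ := (hWm x).1 hx
    rw [hWm]
    refine ⟨k + l, l, ?_⟩
    rw [map_add, map_zsmul, map_zsmul, hUb, hUIb]
    simp only [smul_add, add_smul]; abel
  have hWinv := h.inv_of hπ' hWI hWJ hWU
  have hbW : b ∈ W := (hWm b).2 ⟨1, 0, by simp⟩
  have hIbW : I b ∈ W := hWI b hbW
  have hZR : Z ≤ Q ⊓ R := t.Z_le_A
  have hbA : b ∈ barS Q (Q ⊓ R) := (h.bar_mem_barS hZR _).2 hyA
  -- `w = i y i⁻¹`
  obtain ⟨i, hi⟩ := hπ'.surj i0
  have hIi : I = h.actC i := by rw [hI, ← hi, h.rho_pi hπ']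
  have hIb : I b = bar ⟨i * y * (i : G)⁻¹, h.normQ' i.2 hyQ⟩ := by
    rw [hIi, hb]; exact h.actC_bar i _ _ rfl
  set w : G := i * y * (i : G)⁻¹ with hw
  have hwQ : w ∈ Q := h.normQ' i.2 hyQ
  have hwY : w ∈ centralizer (Y : Set G) := by
    rw [← t.cent_Y hyY hy1, Subgroup.mem_centralizer_singleton_iff]
    rw [hIb, hb, h.form_bar_eq_zero] at hiso
    exact hiso.symm
  -- `τ`
  obtain ⟨τ, hτ⟩ := t.exists_tau
  let τN : ↥(normalizer (Q : Set G)) := ⟨τ, Tau.mem_normalizer t hτ⟩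
  have hτb : act Q τN b = -b := by
    rw [hb, ← bar_inv]
    exact act_bar Q τN _ _ (hτ.yinv y hyY).symm
  have hτiC : τ * i * τ⁻¹ ∈ centralizer (Z : Set G) := hτ.centZ t i.2
  have hτIb : act Q τN (I b) ∈ W := by
    have e1 : act Q τN (I b) = h.actC ⟨τ * i * τ⁻¹, hτiC⟩ (-b) := by
      rw [hIb, hb, ← bar_inv, h.actC_bar ⟨τ * i * τ⁻¹, hτiC⟩ _ ⟨τ * w * τ⁻¹, hτ.normQ t hwQ⟩ ?_]
      · exact act_bar Q τN _ _ rfl
      · show τ * w * τ⁻¹ = τ * i * τ⁻¹ * y⁻¹ * (τ * i * τ⁻¹)⁻¹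
        rw [← hτ.yinv y hyY, hw]; group
    rw [e1]
    exact hWinv _ _ (W.neg_mem hbW)
  have hτw : τ * w * τ⁻¹ * w ∈ Q ⊓ R := hτ.inv_D t hwQ hwY
  have hsum : act Q τN (I b) + I b ∈ barS Q (Q ⊓ R) := by
    have e1 : act Q τN (I b) = bar ⟨τ * w * τ⁻¹, hτ.normQ t hwQ⟩ := by
      rw [hIb]; exact act_bar Q τN _ _ rfl
    rw [e1, hIb, ← bar_mul, h.bar_mem_barS hZR]
    exact hτw
  -- `U t U = t`
  have hUtU : ∀ x, U (act Q τN (U x)) = act Q τN x := by
    intro x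
    have hα : τ * d * τ⁻¹ * d ∈ Q := by
      have := (hτ.symm t).inv_D t.symm hdR d.2
      exact this.2
    have hα' : (d : G) * (τ * d * τ⁻¹ * d) * (d : G)⁻¹ ∈ Q := h.normQ' d.2 hα
    let dN : ↥(normalizer (Q : Set G)) := ⟨d, h.normQ d.2⟩
    let αN : ↥(normalizer (Q : Set G)) := ⟨(d : G) * (τ * d * τ⁻¹ * d) * (d : G)⁻¹, Q.le_normalizer hα'⟩
    have e1 : dN * τN * dN = αN * τN := by
      apply Subtype.ext
      show (d : G) * τ * d = (d : G) * (τ * d * τ⁻¹ * d) * (d : G)⁻¹ * τ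
      group
    have e2 : U (act Q τN (U x)) = act Q (dN * τN * dN) x := by
      rw [hUd, map_mul, map_mul]; rfl
    rw [e2, e1, map_mul]
    exact act_of_mem (g := αN) hα' _
  -- `I b ∈ A`
  have hIbA : I b ∈ barS Q (Q ⊓ R) := by
    by_contra hnot
    obtain ⟨k, l, hkl⟩ := (hWm _).1 (W.add_mem hτIb hIbW)
    have hl : l • I b ∈ barS Q (Q ⊓ R) := by
      have e : l • I b = (act Q τN (I b) + I b) - k • b := by rw [hkl]; abel
      rw [e]
      exact AddSubgroup.sub_mem _ hsum (AddSubgroup.zsmul_mem _ hbA k)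
    have hl0 : l • I b = 0 := by
      have hl3 : l % 3 = 0 ∨ l % 3 = 1 ∨ l % 3 = 2 := by omega
      rcases hl3 with h0 | h0 | h0
      · rw [show l = (l / 3) * 3 by omega, mul_smul, h3z, smul_zero]
      · exfalso; apply hnot
        have : l • I b = I b := by
          rw [show l = (l / 3) * 3 + 1 by omega, add_smul, mul_smul, h3z, smul_zero, zero_add, one_smul]
        rwa [this] at hl
      · exfalso; apply hnot
        have : l • I b = - I b := by
          rw [show l = (l / 3 + 1) * 3 + (-1) by omega, add_smul, mul_smul, h3z, smul_zero, zero_add, neg_smul,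
            one_smul]
        rw [this] at hl
        simpa using AddSubgroup.neg_mem _ hl
    rw [hl0, add_zero] at hkl
    have hτIb' : act Q τN (I b) = k • b - I b := by rw [← hkl]; abel
    have e1 := hUtU (I b)
    rw [hUIb, map_add, hτb, hτIb'] at e1
    simp only [map_add, map_sub, map_neg, map_zsmul, hUb, hUIb] at e1
    have e2 : -(b + b) = 0 := by
      have : -(b + b) = (k • b - (I b + b) + -b) - (k • b - I b) := by abel
      rw [this, e1, sub_self]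
    apply hb0
    have e3 : b + b = 0 := neg_eq_zero.1 e2
    have := h3 b
    rwa [e3, zero_add] at this
  -- `W = A`
  have hWle : W ≤ barS Q (Q ⊓ R) := by
    intro x hx
    obtain ⟨k, l, rfl⟩ := (hWm x).1 hx
    exact AddSubgroup.add_mem _ (AddSubgroup.zsmul_mem _ hbA k) (AddSubgroup.zsmul_mem _ hIbA l)
  have hA9 : Nat.card ↥(barS Q (Q ⊓ R)) = 9 := by
    have := h.card_barS hZR inf_le_left
    rw [t.card_A] at this
    omega
  have hW9 : Nat.card ↥W = 9 := by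
    apply eq_nine
    · rw [← hA9]; exact AddSubgroup.card_dvd_of_le hWle
    · intro h1
      have := AddSubgroup.eq_bot_of_card_eq _ h1
      rw [this, AddSubgroup.mem_bot] at hbW
      exact hb0 hbW
    · have := hops.no_three (W := ⊥) (B := W) (by simp) hWI
      rwa [AddSubgroup.relIndex_bot_left] at this
  have hfinA : Finite ↥(barS Q (Q ⊓ R)) := Nat.finite_of_card_ne_zero (by rw [hA9]; norm_num)
  have hWA : W = barS Q (Q ⊓ R) := AddSubgroup.eq_of_le_of_card_ge hWle (by rw [hA9, hW9])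
  constructor
  · intro c hc a ha
    have h1 := hWinv ⟨c, hc⟩ (bar ⟨a, ha.1⟩) (by rw [hWA, h.bar_mem_barS hZR]; exact ha)
    rw [h.actC_bar ⟨c, hc⟩ ⟨a, ha.1⟩ ⟨c * a * c⁻¹, h.normQ' hc ha.1⟩ rfl, hWA, h.bar_mem_barS hZR] at h1
    exact h1
  · refine ⟨y, hyY, hy1, ?_⟩
    intro a ha haZ
    have h1 : bar ⟨a, ha.1⟩ ∈ W := by rw [hWA, h.bar_mem_barS hZR]; exact ha
    have h2 : ∃ g : S3, bar ⟨a, ha.1⟩ = h.rho hπ' g b := by
      have hneg : ∀ x, h.rho hπ' (-1) x = -x := by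
        intro x
        obtain ⟨c, hc⟩ := hπ'.surj (-1)
        rw [← hc, h.rho_pi hπ']; exact hg'.neg c hc x
      have red : ∀ n : ℤ, ∀ x : MM Q, n • x = 0 ∨ n • x = x ∨ n • x = -x := by
        intro n x
        have hn3 : n % 3 = 0 ∨ n % 3 = 1 ∨ n % 3 = 2 := by omega
        rcases hn3 with h0 | h0 | h0
        · left; rw [show n = (n / 3) * 3 by omega, mul_smul, h3z, smul_zero]
        · right; left
          rw [show n = (n / 3) * 3 + 1 by omega, add_smul, mul_smul, h3z, smul_zero, zero_add, one_smul]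
        · right; right
          rw [show n = (n / 3 + 1) * 3 + (-1) by omega, add_smul, mul_smul, h3z, smul_zero, zero_add, neg_smul,
            one_smul]
      obtain ⟨k, l, hkl⟩ := (hWm _).1 h1
      rcases red k b with hk | hk | hk <;> rcases red l (I b) with hl | hl | hl <;> rw [hk, hl] at hkl
      · exfalso; apply haZ
        rw [add_zero] at hkl
        exact (h.bar_eq_zero_iff ⟨a, ha.1⟩).1 hkl
      · exact ⟨i0, by rw [hkl, zero_add]⟩
      · exact ⟨-1 * i0, by rw [hkl, map_mul, zero_add]; exact (hneg _).symm⟩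
      · exact ⟨1, by rw [hkl, map_one, add_zero]; rfl⟩
      · exact ⟨j0, by rw [hkl, ← hJb]⟩
      · refine ⟨-1 * (i0 * j0), ?_⟩
        rw [hkl, map_mul, map_mul]
        have : -(I (J b)) = b + -I b := by rw [hKb]; abel
        rw [← this]; exact (hneg _).symm
      · exact ⟨-1, by rw [hkl, add_zero]; exact (hneg _).symm⟩
      · refine ⟨i0 * j0, ?_⟩
        rw [hkl, map_mul]
        have : I (J b) = -b + I b := by rw [hKb]; abel
        rw [← this]; rfl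
      · refine ⟨-1 * j0, ?_⟩
        rw [hkl, map_mul]
        have : -(J b) = -b + -I b := by rw [hJb]; abel
        rw [← this]; exact (hneg _).symm
    obtain ⟨g, hgb⟩ := h2
    obtain ⟨c, rfl⟩ := hπ'.surj g
    rw [h.rho_pi hπ', hb, h.actC_bar c ⟨y, hyQ⟩ ⟨c * y * (c : G)⁻¹, h.normQ' c.2 hyQ⟩ rfl, h.bar_eq_iff] at hgb
    have hz : a * (c * y * (c : G)⁻¹)⁻¹ ∈ Z := hgb
    obtain ⟨q, hq, hqy⟩ := h.exists_shift hyQ hyZ hz
    refine ⟨c * q, (centralizer (Z : Set G)).mul_mem c.2 (h.leC hq), ?_⟩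
    set z := a * (c * y * (c : G)⁻¹)⁻¹ with hz_def
    have hzc : z * c = c * z := Subgroup.mem_centralizer_iff.1 c.2 z hz
    calc (c : G) * q * y * (c * q)⁻¹ = c * (q * y * q⁻¹) * (c : G)⁻¹ := by group
      _ = (c * z) * y * (c : G)⁻¹ := by rw [hqy]; group
      _ = z * (c * y * (c : G)⁻¹) := by rw [← hzc]; group
      _ = a := by rw [hz_def]; group

end Cfsg.Agent.H352.L43
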