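import Mathlib
import Cfsg.Agent.S0248
import Cfsg.Agent.S0242

/-!
# Automorphisms of an elementary abelian group of order `27`; `SL(3,3)` (helper352)
-/

set_option autoImplicit false

namespace Cfsg.Agent.H352.L43

open Matrix

/-- `F_3^3` -/
abbrev V3 := Fin 3 → ZMod 3

/-- an additive map of `F_3^3` as a matrix -/
noncomputable def matOf (f : V3 →+ V3) : Matrix (Fin 3) (Fin 3) (ZMod 3) := LinearMap.toMatrix' (f.toZModLinearMap 3)

theorem matOf_mulVec (f : V3 →+ V3) (v : V3) : matOf f *ᵥ v = f v := by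
  unfold matOf
  rw [LinearMap.toMatrix'_mulVec]
  rfl

theorem matOf_eq {f : V3 →+ V3} {m : Matrix (Fin 3) (Fin 3) (ZMod 3)} (h : ∀ v, m *ᵥ v = f v) : matOf f = m := by
  apply Matrix.toLin'.injective
  apply LinearMap.ext
  intro v
  rw [Matrix.toLin'_apply, Matrix.toLin'_apply, matOf_mulVec, h]

theorem exists_theta {A : Type*} [Group A] (hA : ∀ a b : A, a * b = b * a) (h3 : ∀ a : A, a * a * a = 1)
    (hc : Nat.card A = 27) : ∃ E : A ≃ V3, (∀ a b, E (a * b) = E a + E b) ∧
      ∃ θ : MulAut A →* GL (Fin 3) (ZMod 3), Function.Injective θ ∧ ∀ φ a, E (φ a) = (θ φ).1 *ᵥ E a := by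
  have hp : Fact (Nat.Prime 3) := ⟨Nat.prime_three⟩
  let _ : CommGroup A := { (inferInstance : Group A) with mul_comm := hA }
  let _ : Module (ZMod 3) (Additive A) := AddCommGroup.zmodModule (n := 3) (by
    intro x
    show (3 : ℕ) • x = 0
    have h1 := h3 (Additive.toMul x)
    have h2 : (Additive.toMul x) ^ 3 = 1 := by rw [pow_succ, pow_two]; exact h1
    exact h2)
  have hfin : Finite (Additive A) := Nat.finite_of_card_ne_zero (by
    show Nat.card A ≠ 0
    rw [hc]; norm_num)
  have hmf : Module.Finite (ZMod 3) (Additive A) := Module.Finite.of_finite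
  have hrank : Module.finrank (ZMod 3) (Additive A) = 3 := by
    have h1 : Nat.card (Additive A) = Nat.card (ZMod 3) ^ Module.finrank (ZMod 3) (Additive A) :=
      Module.natCard_eq_pow_finrank
    have h2 : Nat.card (Additive A) = 27 := hc
    rw [h2, Nat.card_zmod] at h1
    have h3 : (3 : ℕ) ^ 3 = 3 ^ Module.finrank (ZMod 3) (Additive A) := by rw [← h1]; norm_num
    exact (Nat.pow_right_injective (le_refl 2 |>.trans (by norm_num)) h3).symm
  let b := Module.finBasisOfFinrankEq (ZMod 3) (Additive A) hrank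
  let E' : Additive A ≃ₗ[ZMod 3] V3 := b.equivFun
  let E : A ≃ V3 := Additive.ofMul.trans E'.toEquiv
  have hE : ∀ a b, E (a * b) = E a + E b := fun a b => E'.map_add _ _
  let f : MulAut A → (V3 →+ V3) := fun φ =>
    { toFun := fun v => E (φ (E.symm v))
      map_zero' := by
        have h1 : E.symm 0 = 1 := by
          apply E.injective
          rw [Equiv.apply_symm_apply]
          have := hE 1 1
          rw [mul_one] at this
          exact (by simpa using this : E 1 = 0).symm
        rw [h1, map_one, ← h1, Equiv.apply_symm_apply]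
      map_add' := by
        intro v w
        have h1 : E.symm (v + w) = E.symm v * E.symm w := by
          apply E.injective
          rw [hE, Equiv.apply_symm_apply, Equiv.apply_symm_apply, Equiv.apply_symm_apply]
        rw [h1, map_mul, hE] }
  have hf : ∀ φ v, f φ v = E (φ (E.symm v)) := fun _ _ => rfl
  have hmul : ∀ φ ψ, matOf (f (φ * ψ)) = matOf (f φ) * matOf (f ψ) := by
    intro φ ψ
    apply matOf_eq
    intro v
    rw [← Matrix.mulVec_mulVec, matOf_mulVec, matOf_mulVec, hf, hf, hf, Equiv.symm_apply_apply]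
    rfl
  have hone : matOf (f 1) = 1 := by
    apply matOf_eq
    intro v
    rw [Matrix.one_mulVec, hf]
    show v = E (E.symm v)
    rw [Equiv.apply_symm_apply]
  let θ : MulAut A →* GL (Fin 3) (ZMod 3) :=
    { toFun := fun φ => ⟨matOf (f φ), matOf (f φ⁻¹), by rw [← hmul, mul_inv_cancel, hone],
        by rw [← hmul, inv_mul_cancel, hone]⟩
      map_one' := Units.ext hone
      map_mul' := fun φ ψ => Units.ext (hmul φ ψ) }
  have hθ : ∀ φ a, E (φ a) = (θ φ).1 *ᵥ E a := by
    intro φ a
    show E (φ a) = matOf (f φ) *ᵥ E a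
    rw [matOf_mulVec, hf, Equiv.symm_apply_apply]
  refine ⟨E, hE, θ, ?_, hθ⟩
  intro φ ψ hφψ
  ext a
  apply E.injective
  rw [hθ, hθ, hφψ]

/-- `SL(3,3)` -/
abbrev SL33 := SpecialLinearGroup (Fin 3) (ZMod 3)

theorem card_GL33 : Nat.card (GL (Fin 3) (ZMod 3)) = 11232 := by
  have hp : Fact (Nat.Prime 3) := ⟨Nat.prime_three⟩
  rw [Matrix.card_GL_field, Fintype.card_eq_nat_card, Nat.card_zmod, Fin.prod_univ_three]
  norm_num

theorem card_SL33 : Nat.card SL33 = 5616 := by
  have hp : Fact (Nat.Prime 3) := ⟨Nat.prime_three⟩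
  have h := Cfsg.Agent.S0242.result (F := ZMod 3) (q := 3) (ZMod.card 3) 3 (by norm_num)
  rw [Fin.prod_univ_three] at h
  generalize Nat.card (SpecialLinearGroup (Fin 3) (ZMod 3)) = n at h ⊢
  norm_num at h
  omega

/-- a subgroup of order `5616` of `GL(3,3)` is `SL(3,3)` -/
theorem mem_iff_det {X : Subgroup (GL (Fin 3) (ZMod 3))} (hX : Nat.card ↥X = 5616) (g : GL (Fin 3) (ZMod 3)) :
    g ∈ X ↔ g.1.det = 1 := by
  have hp : Fact (Nat.Prime 3) := ⟨Nat.prime_three⟩
  have hidx : X.index = 2 := by
    have h1 := Subgroup.card_mul_index X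
    rw [hX, card_GL33] at h1
    omega
  have hcomm : commutator (GL (Fin 3) (ZMod 3)) ≤ X := by
    rw [commutator_def, Subgroup.commutator_le]
    intro a _ b _
    have hn : X.Normal := Subgroup.normal_of_index_eq_two hidx
    rw [← Subgroup.inv_mem_iff]
    have key : ∀ x y : GL (Fin 3) (ZMod 3), x * y ∈ X ↔ (x ∈ X ↔ y ∈ X) := fun x y =>
      Subgroup.mul_mem_iff_of_index_two hidx
    rw [Subgroup.inv_mem_iff, commutatorElement_def, key, key, key, Subgroup.inv_mem_iff, Subgroup.inv_mem_iff]
    tauto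
  let ι : SL33 →* GL (Fin 3) (ZMod 3) := SpecialLinearGroup.toGL
  have hle : ι.range ≤ X := by
    have h1 : ι.range = (commutator SL33).map ι := by
      rw [Cfsg.Agent.S0248.result 3 le_rfl, ← MonoidHom.range_eq_map]
    rw [h1]
    refine le_trans ?_ hcomm
    rw [commutator_def, Subgroup.map_commutator]
    exact Subgroup.commutator_mono le_top le_top
  have hinj : Function.Injective ι := by
    intro a b hab
    apply Subtype.ext
    exact congrArg (fun g : GL (Fin 3) (ZMod 3) => g.1) hab
  have hcard : Nat.card ↥ι.range = 5616 := by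
    rw [← card_SL33]
    exact (Nat.card_congr (MonoidHom.ofInjective hinj).toEquiv).symm
  have heq : ι.range = X := Subgroup.eq_of_le_of_card_ge hle (by rw [hcard, hX])
  rw [← heq]
  constructor
  · rintro ⟨s, rfl⟩
    exact s.2
  · intro hg
    exact ⟨⟨g.1, hg⟩, Units.ext rfl⟩

end Cfsg.Agent.H352.L43
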