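import Mathlib
import Cfsg.Agent.S0243
import Cfsg.Agent.H352.L43.GLThree

/-!
# `3^3 : SL(3,3)` is a maximal subgroup of `PSL(4,3)` (helper352)
-/

set_option autoImplicit false

namespace Cfsg.Agent.H352.L43

open Matrix

/-- `SL(4,3)` -/
abbrev SL43 := SpecialLinearGroup (Fin 4) (ZMod 3)
/-- `PSL(4,3)` -/
abbrev PSL43 := ProjectiveSpecialLinearGroup (Fin 4) (ZMod 3)

instance : Fact (Nat.Prime 3) := ⟨Nat.prime_three⟩

theorem card_PSL43 : Nat.card PSL43 = 6065280 := by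
  have h := Cfsg.Agent.S0243.result (F := ZMod 3) (q := 3) (ZMod.card 3) 4 (by norm_num)
  rw [Fin.prod_univ_four] at h
  generalize Nat.card (ProjectiveSpecialLinearGroup (Fin 4) (ZMod 3)) = n at h ⊢
  norm_num at h
  omega

/-- the affine matrix -/
def aff (M : Matrix (Fin 3) (Fin 3) (ZMod 3)) (v : V3) : Matrix (Fin 4) (Fin 4) (ZMod 3) :=
  Matrix.reindexAlgEquiv (ZMod 3) (ZMod 3) (finSumFinEquiv : Fin 3 ⊕ Fin 1 ≃ Fin 4)
    (Matrix.fromBlocks M (Matrix.of fun i _ => v i) 0 1)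

theorem aff_mul (M M' : Matrix (Fin 3) (Fin 3) (ZMod 3)) (v v' : V3) :
    aff M v * aff M' v' = aff (M * M') (M *ᵥ v' + v) := by
  unfold aff
  rw [← map_mul, Matrix.fromBlocks_multiply]
  congr 1
  simp only [Matrix.zero_mul, Matrix.mul_zero, Matrix.mul_one, add_zero, zero_add, mul_one]
  congr 1

theorem aff_one : aff 1 0 = 1 := by
  unfold aff
  have : Matrix.fromBlocks (1 : Matrix (Fin 3) (Fin 3) (ZMod 3)) (Matrix.of fun i _ => (0 : V3) i) 0
      (1 : Matrix (Fin 1) (Fin 1) (ZMod 3)) = 1 := by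
    rw [← Matrix.fromBlocks_one]
    congr 1
  rw [this, map_one]

theorem aff_det (M : Matrix (Fin 3) (Fin 3) (ZMod 3)) (v : V3) : (aff M v).det = M.det := by
  unfold aff
  rw [Matrix.det_reindexAlgEquiv, Matrix.det_fromBlocks_zero₂₁, Matrix.det_one, mul_one]

theorem aff_injective {M M' : Matrix (Fin 3) (Fin 3) (ZMod 3)} {v v' : V3} (h : aff M v = aff M' v') :
    M = M' ∧ v = v' := by
  have h1 := (Matrix.reindexAlgEquiv (ZMod 3) (ZMod 3) (finSumFinEquiv : Fin 3 ⊕ Fin 1 ≃ Fin 4)).injective h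
  rw [Matrix.fromBlocks_inj] at h1
  refine ⟨h1.1, ?_⟩
  funext i
  exact congrFun (congrFun h1.2.1 i) 0

/-- the last vector -/
def e4 : Fin 4 → ZMod 3 := fun i => if i = 3 then 1 else 0

theorem aff_last (M : Matrix (Fin 3) (Fin 3) (ZMod 3)) (v : V3) : e4 ᵥ* aff M v = e4 := by
  funext j
  have : ∀ j : Fin 4, aff M v 3 j = e4 j := by
    intro j
    have h3 : (finSumFinEquiv : Fin 3 ⊕ Fin 1 ≃ Fin 4).symm 3 = Sum.inr 0 := by decide
    show Matrix.fromBlocks M (Matrix.of fun i _ => v i) 0 1 ((finSumFinEquiv : Fin 3 ⊕ Fin 1 ≃ Fin 4).symm 3)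
      ((finSumFinEquiv : Fin 3 ⊕ Fin 1 ≃ Fin 4).symm j) = e4 j
    rw [h3]
    fin_cases j
    · rfl
    · rfl
    · rfl
    · rfl
  rw [← this j]
  unfold e4
  simp [Matrix.vecMul, dotProduct]

/-- inverse transpose -/
def itr : SL43 →* SL43 where
  toFun s := ⟨(s⁻¹).1ᵀ, by rw [Matrix.det_transpose]; exact (s⁻¹).2⟩
  map_one' := Subtype.ext (by simp)
  map_mul' s t := Subtype.ext (by
    show ((s * t)⁻¹).1ᵀ = (s⁻¹).1ᵀ * (t⁻¹).1ᵀ
    rw [_root_.mul_inv_rev, ← Matrix.transpose_mul]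
    rfl)

theorem itr_coe (s : SL43) : (itr s).1 = (s⁻¹).1ᵀ := rfl

theorem itr_injective : Function.Injective itr := by
  intro s t h
  have h1 := congrArg Subtype.val h
  rw [itr_coe, itr_coe] at h1
  have h2 := Matrix.transpose_injective h1
  have h3 : s⁻¹ = t⁻¹ := Subtype.ext h2
  exact inv_injective h3

/-- the affine map as an element of `SL(4,3)` -/
def affS (M : SL33) (v : V3) : SL43 := ⟨aff M.1 v, by rw [aff_det]; exact M.2⟩

theorem e4_ne : e4 ≠ 0 := by
  intro h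
  have := congrFun h 3
  revert this
  decide

/-- the point fixed by the parabolic -/
def pt : Projectivization (ZMod 3) (Fin 4 → ZMod 3) := Projectivization.mk (ZMod 3) e4 e4_ne

theorem card_proj : Nat.card (Projectivization (ZMod 3) (Fin 4 → ZMod 3)) = 40 := by
  have h := Projectivization.card (ZMod 3) (Fin 4 → ZMod 3)
  rw [Nat.card_zmod, Nat.card_eq_fintype_card (α := Fin 4 → ZMod 3), Fintype.card_fun, ZMod.card, Fintype.card_fin] at h
  norm_num at h
  omega

theorem affS_smul (M : SL33) (v : V3) : itr (affS M v) • pt = pt := by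
  have h1 : (affS M v)⁻¹.1ᵀ *ᵥ e4 = e4 := by
    rw [Matrix.mulVec_transpose]
    have h2 : e4 ᵥ* (affS M v).1 = e4 := aff_last _ _
    calc e4 ᵥ* (affS M v)⁻¹.1 = (e4 ᵥ* (affS M v).1) ᵥ* (affS M v)⁻¹.1 := by rw [h2]
      _ = e4 ᵥ* ((affS M v).1 * (affS M v)⁻¹.1) := by rw [Matrix.vecMul_vecMul]
      _ = e4 := by
        have : (affS M v).1 * (affS M v)⁻¹.1 = (1 : Matrix (Fin 4) (Fin 4) (ZMod 3)) := by
          rw [← Matrix.SpecialLinearGroup.coe_mul, mul_inv_cancel, Matrix.SpecialLinearGroup.coe_one]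
        rw [this, Matrix.vecMul_one]
  unfold pt
  rw [Projectivization.smul_mk, Projectivization.mk_eq_mk_iff']
  refine ⟨1, ?_⟩
  rw [one_smul]
  exact h1.symm

/-- **A group of shape `3^3 : SL(3,3)` is isomorphic to a maximal subgroup of `PSL(4,3)`.** -/
theorem exists_parabolic {G : Type*} [Group G] [Finite G] (hcard : Nat.card G = 151632) {A H : Subgroup G}
    (hn : A.Normal) (hAH : Subgroup.IsComplement' A H) (E : ↥A ≃ V3) (Φ : G →* SL33)
    (hE : ∀ a b, E (a * b) = E a + E b) (hker : ∀ g, Φ g = 1 ↔ g ∈ A)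
    (hact : ∀ (g : G) (a b : ↥A), (b : G) = g * a * g⁻¹ → E b = (Φ g).1.mulVec (E a)) :
    ∃ P : Subgroup PSL43, IsCoatom P ∧ Nonempty (G ≃* ↥P) := by
  -- the decomposition
  have hdec : ∀ g : G, ∃ a : ↥A, (a : G)⁻¹ * g ∈ H := by
    intro g
    have h1 : g ∈ A ⊔ H := by rw [hAH.sup_eq_top]; trivial
    obtain ⟨a, ha, h, hh, rfl⟩ := (Subgroup.mem_sup_of_normal_left).1 h1
    exact ⟨⟨a, ha⟩, by simpa using hh⟩
  choose pa hpa using hdec
  have huni : ∀ (g : G) (a : ↥A), (a : G)⁻¹ * g ∈ H → pa g = a := by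
    intro g a ha
    have h1 : (a : G)⁻¹ * (pa g : G) ∈ H := by
      have := H.mul_mem ha (H.inv_mem (hpa g))
      have e : (a : G)⁻¹ * g * ((pa g : G)⁻¹ * g)⁻¹ = (a : G)⁻¹ * (pa g : G) := by group
      rwa [e] at this
    have h2 : (a : G)⁻¹ * (pa g : G) ∈ A ⊓ H := ⟨A.mul_mem (A.inv_mem a.2) (pa g).2, h1⟩
    rw [hAH.disjoint.eq_bot, Subgroup.mem_bot] at h2
    apply Subtype.ext
    calc (pa g : G) = a * ((a : G)⁻¹ * pa g) := by group
      _ = a := by rw [h2, mul_one]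
  have hE1 : E 1 = 0 := by
    have := hE 1 1
    rw [mul_one] at this
    simpa using this
  have hmul : ∀ g g' : G, E (pa (g * g')) = (Φ g).1 *ᵥ E (pa g') + E (pa g) := by
    intro g g'
    set h := (pa g : G)⁻¹ * g with hh
    have hhH : h ∈ H := hpa g
    have hb : h * (pa g' : G) * h⁻¹ ∈ A := hn.conj_mem _ (pa g').2 h
    have h1 : pa (g * g') = pa g * ⟨h * (pa g' : G) * h⁻¹, hb⟩ := by
      apply huni
      have e : ((pa g * ⟨h * (pa g' : G) * h⁻¹, hb⟩ : ↥A) : G)⁻¹ * (g * g') = h * ((pa g' : G)⁻¹ * g') := by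
        show ((pa g : G) * (h * (pa g' : G) * h⁻¹))⁻¹ * (g * g') = _
        rw [hh]; group
      rw [e]
      exact H.mul_mem hhH (hpa g')
    have h2 : Φ h = Φ g := by
      rw [hh, map_mul, (hker _).2 (A.inv_mem (pa g).2), one_mul]
    rw [h1, hE, hact h (pa g') ⟨h * (pa g' : G) * h⁻¹, hb⟩ rfl, h2, add_comm]
  let F : G →* SL43 :=
    { toFun := fun g => affS (Φ g) (E (pa g))
      map_one' := by
        apply Subtype.ext
        show aff (Φ 1).1 (E (pa 1)) = 1
        have h1 : pa 1 = 1 := huni 1 1 (by simp)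
        rw [map_one, h1, hE1]
        exact aff_one
      map_mul' := fun g g' => by
        apply Subtype.ext
        show aff (Φ (g * g')).1 (E (pa (g * g'))) = aff (Φ g).1 (E (pa g)) * aff (Φ g').1 (E (pa g'))
        rw [aff_mul, map_mul, hmul]; rfl }
  let F' : G →* PSL43 := (QuotientGroup.mk' _).comp (itr.comp F)
  have hinj : Function.Injective F' := by
    rw [injective_iff_map_eq_one]
    intro g hg
    have h1 : itr (F g) ∈ Subgroup.center SL43 := (QuotientGroup.eq_one_iff _).1 hg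
    obtain ⟨r, hr, hrg⟩ := Matrix.SpecialLinearGroup.mem_center_iff.1 h1
    -- the scalar is `1`
    have h2 : ((F g)⁻¹).1 = scalar (Fin 4) r := by
      have h3 : ((F g)⁻¹).1ᵀ = scalar (Fin 4) r := hrg.symm
      calc ((F g)⁻¹).1 = (((F g)⁻¹).1ᵀ)ᵀ := (Matrix.transpose_transpose _).symm
        _ = scalar (Fin 4) r := by rw [h3]; simp
    have h4 : e4 ᵥ* (F g).1 = e4 := aff_last _ _
    have h5 : e4 ᵥ* ((F g)⁻¹).1 = e4 := by
      calc e4 ᵥ* (F g)⁻¹.1 = (e4 ᵥ* (F g).1) ᵥ* (F g)⁻¹.1 := by rw [h4]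
        _ = e4 ᵥ* ((F g).1 * (F g)⁻¹.1) := by rw [Matrix.vecMul_vecMul]
        _ = e4 := by
          have : (F g).1 * (F g)⁻¹.1 = (1 : Matrix (Fin 4) (Fin 4) (ZMod 3)) := by
            rw [← Matrix.SpecialLinearGroup.coe_mul, mul_inv_cancel, Matrix.SpecialLinearGroup.coe_one]
          rw [this, Matrix.vecMul_one]
    have hr1 : r = 1 := by
      rw [h2] at h5
      have h6 := congrFun h5 3
      simpa [e4, Matrix.vecMul, dotProduct, Matrix.scalar_apply, Matrix.diagonal_apply] using h6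
    have h7 : (F g)⁻¹ = 1 := by
      apply Subtype.ext
      rw [h2, hr1]; simp
    have h8 : F g = 1 := inv_eq_one.1 h7
    have h9 : aff (Φ g).1 (E (pa g)) = aff 1 0 := by rw [aff_one]; exact congrArg Subtype.val h8
    obtain ⟨h10, h11⟩ := aff_injective h9
    have hgA : g ∈ A := (hker g).1 (Subtype.ext h10)
    have h12 : pa g = ⟨g, hgA⟩ := huni g ⟨g, hgA⟩ (by simp)
    rw [h12] at h11
    have h13 : (⟨g, hgA⟩ : ↥A) = 1 := E.injective (by rw [h11, hE1])
    exact congrArg Subtype.val h13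
  have hfinPSL : Finite PSL43 := Nat.finite_of_card_ne_zero (by rw [card_PSL43]; norm_num)
  have hfinproj : Finite (Projectivization (ZMod 3) (Fin 4 → ZMod 3)) :=
    Nat.finite_of_card_ne_zero (by rw [card_proj]; norm_num)
  let P : Subgroup PSL43 := MulAction.stabilizer PSL43 pt
  have hPcard : Nat.card ↥P = 151632 := by
    have h1 := Subgroup.card_mul_index P
    have h2 : P.index = 40 := by
      rw [← card_proj]
      exact MulAction.index_stabilizer_of_transitive PSL43 pt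
    rw [h2, card_PSL43] at h1
    omega
  have hle : F'.range ≤ P := by
    rintro _ ⟨g, rfl⟩
    show F' g • pt = pt
    have : F' g • pt = itr (F g) • pt := Matrix.ProjectiveSpecialLinearGroup.smul_proj_mk _ _
    rw [this]
    exact affS_smul _ _
  have heq : F'.range = P := by
    apply Subgroup.eq_of_le_of_card_ge hle
    rw [hPcard, ← hcard]
    exact (Nat.card_congr (MonoidHom.ofInjective hinj).toEquiv).le
  have hnt : Nontrivial (Projectivization (ZMod 3) (Fin 4 → ZMod 3)) := by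
    rw [← Finite.one_lt_card_iff_nontrivial, card_proj]; norm_num
  refine ⟨P, MulAction.IsPreprimitive.isCoatom_stabilizer_of_isPreprimitive PSL43 pt, ⟨?_⟩⟩
  exact (MonoidHom.ofInjective hinj).trans (MulEquiv.subgroupCongr heq)

end Cfsg.Agent.H352.L43
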