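import Mathlib

/-!
# Linear algebra for a 3-local recognition of `PSL(4,3)` (helper352)

`M` is an additive group of exponent `3` with operators `I, J, U` satisfying the relations of `SL(2,3)`
(`I² = J² = -1`, `IJ = -JI`, `U I = J U`, `U J = I J U`, `U³ = 1`) and a nondegenerate alternating form.
If there is an invariant subgroup `W` of order `9` with `M/W` of order `9`, then `U = 1 + I + J + IJ`.
-/

set_option autoImplicit false

namespace Cfsg.Agent.H352.L43

/-- Elements of a ring satisfying the relations of `SL(2,3)`. -/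
structure Ops {R : Type*} [Ring R] (I J U : R) : Prop where
  three : (3 : R) = 0
  II : I * I = -1
  JJ : J * J = -1
  JI : J * I = -(I * J)
  UI : U * I = J * U
  UJ : U * J = I * J * U
  U3 : U * U * U = 1

namespace Ops

variable {R : Type*} [Ring R] {I J U : R}

theorem add3 (h : Ops I J U) (x : R) : x + x + x = 0 := by
  have : x + x + x = 3 * x := by noncomm_ring
  rw [this, h.three, zero_mul]

/-- `s = I + J + IJ`. -/
def s (I J : R) : R := I + J + I * J

theorem ss (h : Ops I J U) : s I J * s I J = 0 := by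
  have h1 := h.II
  have h2 := h.JJ
  have h3 := h.JI
  have h4 : I * (I * J) = -J := by rw [← mul_assoc, h1]; simp
  have h5 : J * (I * J) = I := by rw [← mul_assoc, h3, neg_mul, mul_assoc, h2]; simp
  have h6 : I * J * I = J := by rw [mul_assoc, h3, mul_neg, h4]; simp
  have h7 : I * J * J = -I := by rw [mul_assoc, h2]; simp
  have h8 : I * J * (I * J) = -1 := by rw [mul_assoc, h5, h1]
  have h9 := h.add3 (-1)
  unfold s
  simp only [add_mul, mul_add, h1, h2, h3, h4, h5, h6, h7, h8]
  calc _ = (-1 : R) + -1 + -1 := by abel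
    _ = 0 := h9

theorem Us (h : Ops I J U) : U * s I J = s I J * U := by
  unfold s
  have h1 : U * (I * J) = I * U := by
    rw [← mul_assoc, h.UI, mul_assoc, h.UJ, ← mul_assoc, ← mul_assoc, h.JI]
    rw [neg_mul, mul_assoc I J J, h.JJ]; simp
  simp only [mul_add, add_mul, h.UI, h.UJ, h1]
  abel

/-- `ψ = U (1 - s)`. -/
def psi (I J U : R) : R := U * (1 - s I J)

theorem psiI (h : Ops I J U) : psi I J U * I = I * psi I J U := by
  have h4 : I * (I * J) = -J := by rw [← mul_assoc, h.II]; simp
  have h6 : I * J * I = J := by rw [mul_assoc, h.JI, mul_neg, h4]; simp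
  have e1 : (1 - s I J) * I = I + 1 + I * J - J := by
    unfold s; simp only [sub_mul, add_mul, one_mul, h.II, h.JI, h6]; abel
  have h10 : U * (I * J) = I * U := by
    rw [← mul_assoc, h.UI, mul_assoc, h.UJ, ← mul_assoc, ← mul_assoc, h.JI]
    rw [neg_mul, mul_assoc I J J, h.JJ]; simp
  have e2 : I * psi I J U = I * U - I * (s I J * U) := by
    unfold psi; rw [← mul_assoc, mul_assoc, mul_sub, mul_one, h.Us]; noncomm_ring
  rw [e2]
  unfold psi
  rw [mul_assoc, e1]
  have e3 : I * (s I J * U) = - U + I * J * U - J * U := by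
    unfold s
    simp only [add_mul, mul_add]
    rw [← mul_assoc, ← mul_assoc, ← mul_assoc I (I * J), h4, h.II]; noncomm_ring
  rw [e3]
  simp only [mul_add, mul_sub, mul_one, h.UI, h.UJ, h10]
  have := h.add3 U
  abel

theorem psiJ (h : Ops I J U) : psi I J U * J = J * psi I J U := by
  have h5 : J * (I * J) = I := by rw [← mul_assoc, h.JI, neg_mul, mul_assoc, h.JJ]; simp
  have h7 : I * J * J = -I := by rw [mul_assoc, h.JJ]; simp
  have e1 : (1 - s I J) * J = J - I * J + 1 + I := by
    unfold s; simp only [sub_mul, add_mul, one_mul, h.JJ, h7]; abel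
  have h10 : U * (I * J) = I * U := by
    rw [← mul_assoc, h.UI, mul_assoc, h.UJ, ← mul_assoc, ← mul_assoc, h.JI]
    rw [neg_mul, mul_assoc I J J, h.JJ]; simp
  have e2 : J * psi I J U = J * U - J * (s I J * U) := by
    unfold psi; rw [← mul_assoc, mul_assoc, mul_sub, mul_one, h.Us]; noncomm_ring
  rw [e2]
  unfold psi
  rw [mul_assoc, e1]
  have e3 : J * (s I J * U) = - (I * J * U) - U + I * U := by
    unfold s
    simp only [add_mul, mul_add]
    rw [← mul_assoc, ← mul_assoc, ← mul_assoc J (I * J), h5, h.JJ, h.JI]; noncomm_ring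
  rw [e3]
  simp only [mul_add, mul_sub, mul_one, h.UI, h.UJ, h10]
  abel

theorem psi3 (h : Ops I J U) : psi I J U * psi I J U * psi I J U = 1 := by
  have hc : (1 - s I J) * U = U * (1 - s I J) := by rw [sub_mul, mul_sub, h.Us]; simp
  have h1 : (1 - s I J) * (1 - s I J) * (1 - s I J) = 1 := by
    have h2 : (1 - s I J) * (1 - s I J) = 1 - s I J - s I J := by
      have h3 : (1 - s I J) * (1 - s I J) = 1 - s I J - s I J + s I J * s I J := by noncomm_ring
      rw [h3, h.ss, add_zero]
    rw [h2]
    have := h.add3 (s I J)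
    calc (1 - s I J - s I J) * (1 - s I J)
        = 1 - (s I J + s I J + s I J) + (s I J * s I J + s I J * s I J) := by noncomm_ring
      _ = 1 := by rw [this, h.ss]; simp
  unfold psi
  calc U * (1 - s I J) * (U * (1 - s I J)) * (U * (1 - s I J))
      = U * ((1 - s I J) * U) * (1 - s I J) * (U * (1 - s I J)) := by noncomm_ring
    _ = U * (U * (1 - s I J)) * (1 - s I J) * (U * (1 - s I J)) := by rw [hc]
    _ = U * U * (1 - s I J) * ((1 - s I J) * U) * (1 - s I J) := by noncomm_ring
    _ = U * U * (1 - s I J) * (U * (1 - s I J)) * (1 - s I J) := by rw [hc]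
    _ = U * U * ((1 - s I J) * U) * (1 - s I J) * (1 - s I J) := by noncomm_ring
    _ = U * U * (U * (1 - s I J)) * (1 - s I J) * (1 - s I J) := by rw [hc]
    _ = (U * U * U) * ((1 - s I J) * (1 - s I J) * (1 - s I J)) := by noncomm_ring
    _ = 1 := by rw [h.U3, h1, one_mul]

/-- `N = ψ - 1` -/
def N (I J U : R) : R := psi I J U - 1

theorem NI (h : Ops I J U) : N I J U * I = I * N I J U := by
  unfold N; rw [sub_mul, mul_sub, h.psiI]; simp

theorem NJ (h : Ops I J U) : N I J U * J = J * N I J U := by
  unfold N; rw [sub_mul, mul_sub, h.psiJ]; simp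

theorem N3 (h : Ops I J U) : N I J U * N I J U * N I J U = 0 := by
  have h1 := h.psi3
  have h2 := h.add3 (psi I J U * psi I J U)
  have h3 := h.add3 (psi I J U)
  unfold N
  calc (psi I J U - 1) * (psi I J U - 1) * (psi I J U - 1)
      = psi I J U * psi I J U * psi I J U
        - (psi I J U * psi I J U + psi I J U * psi I J U + psi I J U * psi I J U)
        + (psi I J U + psi I J U + psi I J U) - 1 := by noncomm_ring
    _ = 0 := by rw [h1, h2, h3]; simp

/-- if `N = 0` then `U = 1 + s` -/
theorem U_eq (h : Ops I J U) (hN : N I J U = 0) : U = 1 + s I J := by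
  have h1 : U * (1 - s I J) = 1 := by
    have : psi I J U - 1 = 0 := hN
    exact sub_eq_zero.1 this
  have h2 : (1 - s I J) * (1 + s I J) = 1 := by
    have h3 : (1 - s I J) * (1 + s I J) = 1 - s I J * s I J := by noncomm_ring
    rw [h3, h.ss, sub_zero]
  calc U = U * ((1 - s I J) * (1 + s I J)) := by rw [h2, mul_one]
    _ = (U * (1 - s I J)) * (1 + s I J) := by rw [mul_assoc]
    _ = 1 + s I J := by rw [h1, one_mul]

end Ops

open Ops


section Mod

variable {M : Type*} [AddCommGroup M] {I J U : AddMonoid.End M}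

theorem Ops.three_smul (h : Ops I J U) (x : M) : x + x + x = 0 := by
  have h1 := h.add3 1
  have h2 := congrArg (fun f : AddMonoid.End M => f x) h1
  exact h2

theorem Ops.II' (h : Ops I J U) (x : M) : I (I x) = -x := by
  have h2 := congrArg (fun f : AddMonoid.End M => f x) h.II
  exact h2

theorem Ops.JJ' (h : Ops I J U) (x : M) : J (J x) = -x := by
  have h2 := congrArg (fun f : AddMonoid.End M => f x) h.JJ
  exact h2

theorem Ops.JI' (h : Ops I J U) (x : M) : J (I x) = -I (J x) := by
  have h2 := congrArg (fun f : AddMonoid.End M => f x) h.JI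
  exact h2

/-- No section of order `3`. -/
theorem Ops.no_three (h : Ops I J U) {W B : AddSubgroup M} (hW : ∀ x ∈ W, I x ∈ W)
    (hB : ∀ x ∈ B, I x ∈ B) : W.relIndex B ≠ 3 := by
  intro h3
  have hp : Fact (Nat.Prime 3) := ⟨Nat.prime_three⟩
  have hc : Nat.card (↥B ⧸ W.addSubgroupOf B) = 3 := h3
  obtain ⟨x, hx, hxW⟩ : ∃ x ∈ B, x ∉ W := by
    by_contra hcon
    push Not at hcon
    have : W.relIndex B = 1 := AddSubgroup.relIndex_eq_one.2 hcon
    omega
  have hmk : ((⟨x, hx⟩ : ↥B) : ↥B ⧸ W.addSubgroupOf B) ≠ 0 := by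
    intro h0
    rw [QuotientAddGroup.eq_zero_iff] at h0
    exact hxW h0
  have htop := zmultiples_eq_top_of_prime_card hc hmk
  have hm : ((⟨I x, hB x hx⟩ : ↥B) : ↥B ⧸ W.addSubgroupOf B) ∈
      AddSubgroup.zmultiples ((⟨x, hx⟩ : ↥B) : ↥B ⧸ W.addSubgroupOf B) := by rw [htop]; trivial
  obtain ⟨n, hn⟩ := AddSubgroup.mem_zmultiples_iff.1 hm
  have h1 : I x - n • x ∈ W := by
    have h2 : ((n • (⟨x, hx⟩ : ↥B) : ↥B) : ↥B ⧸ W.addSubgroupOf B) =
        ((⟨I x, hB x hx⟩ : ↥B) : ↥B ⧸ W.addSubgroupOf B) := by
      rw [← hn]; rfl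
    rw [QuotientAddGroup.eq] at h2
    have h3 : -(n • x) + I x ∈ W := h2
    rwa [sub_eq_neg_add]
  have h2 := hW _ h1
  rw [map_sub, map_zsmul, h.II'] at h2
  have h4 : (n * n + 1) • x ∈ W := by
    have h5 := W.add_mem h2 (W.zsmul_mem h1 n)
    have h6 := W.neg_mem h5
    convert h6 using 1
    rw [zsmul_sub, smul_smul, add_smul, one_smul]
    abel
  have h3x : (3 : ℤ) • x = 0 := by
    have := h.three_smul x
    rw [← this]; abel
  have key : ∀ k : ℤ, (3 * k) • x = 0 := fun k => by rw [mul_comm, mul_smul, h3x, smul_zero]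
  have hn3 : n % 3 = 0 ∨ n % 3 = 1 ∨ n % 3 = 2 := by omega
  rcases hn3 with h0 | h0 | h0
  · obtain ⟨k, hk⟩ : ∃ k, n = 3 * k := ⟨n / 3, by omega⟩
    have : (n * n + 1) • x = x := by
      have : n * n + 1 = 3 * (3 * k * k) + 1 := by rw [hk]; ring
      rw [this, add_smul, key, zero_add, one_smul]
    rw [this] at h4; exact hxW h4
  · obtain ⟨k, hk⟩ : ∃ k, n = 3 * k + 1 := ⟨n / 3, by omega⟩
    have : (n * n + 1) • x = -x := by
      have : n * n + 1 = 3 * (3 * k * k + 2 * k + 1) + (-1) := by rw [hk]; ring
      rw [this, add_smul, key, zero_add, neg_smul, one_smul]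
    rw [this] at h4; exact hxW (by simpa using W.neg_mem h4)
  · obtain ⟨k, hk⟩ : ∃ k, n = 3 * k + 2 := ⟨n / 3, by omega⟩
    have : (n * n + 1) • x = -x := by
      have : n * n + 1 = 3 * (3 * k * k + 4 * k + 2) + (-1) := by rw [hk]; ring
      rw [this, add_smul, key, zero_add, neg_smul, one_smul]
    rw [this] at h4; exact hxW (by simpa using W.neg_mem h4)

end Mod



section Form

variable {M : Type*} [AddCommGroup M] {I J U : AddMonoid.End M}
variable {A : Type*} [AddCommGroup A]

/-- an invariant nondegenerate alternating form -/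
structure Form (I J U : AddMonoid.End M) (f : M →+ M →+ A) : Prop where
  two : ∀ a : A, a + a = 0 → a = 0
  alt : ∀ x, f x x = 0
  nd : ∀ x, (∀ y, f x y = 0) → x = 0
  fI : ∀ x y, f (I x) (I y) = f x y
  fJ : ∀ x y, f (J x) (J y) = f x y
  fU : ∀ x y, f (U x) (U y) = f x y

variable {f : M →+ M →+ A}

theorem Form.skew (F : Form I J U f) (x y : M) : f x y = - f y x := by
  have h := F.alt (x + y)
  simp only [map_add, AddMonoidHom.add_apply, F.alt, zero_add, add_zero] at h
  exact eq_neg_of_add_eq_zero_left (by rw [add_comm]; exact h)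

theorem Form.adjI (h : Ops I J U) (F : Form I J U f) (x y : M) : f (I x) y = - f x (I y) := by
  have h1 := F.fI (I x) y
  rw [h.II', map_neg, AddMonoidHom.neg_apply] at h1
  exact h1.symm

theorem Form.adjJ (h : Ops I J U) (F : Form I J U f) (x y : M) : f (J x) y = - f x (J y) := by
  have h1 := F.fJ (J x) y
  rw [h.JJ', map_neg, AddMonoidHom.neg_apply] at h1
  exact h1.symm

theorem Form.adjIJ (h : Ops I J U) (F : Form I J U f) (x y : M) : f (I (J x)) y = - f x (I (J y)) := by
  rw [F.adjI h, F.adjJ h, h.JI', map_neg, neg_neg]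

theorem s_apply (I J : AddMonoid.End M) (x : M) : s I J x = I x + J x + I (J x) := rfl

theorem psi_apply (x : M) : psi I J U x = U (x - s I J x) := rfl

theorem N_apply (x : M) : N I J U x = psi I J U x - x := rfl

theorem Form.adjs (h : Ops I J U) (F : Form I J U f) (x y : M) : f (s I J x) y = - f x (s I J y) := by
  rw [s_apply, map_add, map_add, AddMonoidHom.add_apply, AddMonoidHom.add_apply, F.adjIJ h, F.adjI h, F.adjJ h,
    s_apply, map_add, map_add]
  abel

theorem Ops.ss' (h : Ops I J U) (x : M) : s I J (s I J x) = 0 := by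
  have h2 := congrArg (fun f : AddMonoid.End M => f x) h.ss
  exact h2

theorem Ops.NI' (h : Ops I J U) (x : M) : N I J U (I x) = I (N I J U x) := by
  have h2 := congrArg (fun f : AddMonoid.End M => f x) h.NI
  exact h2

theorem Ops.NJ' (h : Ops I J U) (x : M) : N I J U (J x) = J (N I J U x) := by
  have h2 := congrArg (fun f : AddMonoid.End M => f x) h.NJ
  exact h2

theorem Ops.N3' (h : Ops I J U) (x : M) : N I J U (N I J U (N I J U x)) = 0 := by
  have h2 := congrArg (fun f : AddMonoid.End M => f x) h.N3
  exact h2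

theorem Form.fpsi (h : Ops I J U) (F : Form I J U f) (x y : M) :
    f (psi I J U x) (psi I J U y) = f x y := by
  rw [psi_apply, psi_apply, F.fU]
  simp only [map_sub, AddMonoidHom.sub_apply, F.adjs h, h.ss', map_zero]
  abel

end Form

section Main

variable {M : Type*} [AddCommGroup M] {I J U : AddMonoid.End M}
variable {A : Type*} [AddCommGroup A]
variable {f : M →+ M →+ A}

theorem card_mul_relIndex' {W B : AddSubgroup M} (h : W ≤ B) :
    Nat.card ↥W * W.relIndex B = Nat.card ↥B := by
  have h1 := AddSubgroup.relIndex_mul_relIndex (⊥ : AddSubgroup M) W B bot_le h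
  rwa [AddSubgroup.relIndex_bot_left, AddSubgroup.relIndex_bot_left] at h1

theorem eq_nine {n : ℕ} (h : n ∣ 9) (h1 : n ≠ 1) (h3 : n ≠ 3) : n = 9 := by
  have h2 := Nat.le_of_dvd (by norm_num) h
  interval_cases n <;> omega

/-- `N` vanishes on `W` -/
theorem Ops.N_W (h : Ops I J U) [Finite M] {W : AddSubgroup M}
    (hI : ∀ x ∈ W, I x ∈ W) (hJ : ∀ x ∈ W, J x ∈ W) (hU : ∀ x ∈ W, U x ∈ W)
    (hcW : Nat.card ↥W = 9) : ∀ x ∈ W, N I J U x = 0 := by
  have hN : ∀ x ∈ W, N I J U x ∈ W := by
    intro x hx
    rw [N_apply, psi_apply]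
    apply W.sub_mem _ hx
    apply hU
    apply W.sub_mem hx
    rw [s_apply]
    exact W.add_mem (W.add_mem (hI x hx) (hJ x hx)) (hI _ (hJ x hx))
  let K1 : AddSubgroup M := AddMonoidHom.ker (N (R := AddMonoid.End M) I J U) ⊓ W
  have hK1I : ∀ x ∈ K1, I x ∈ K1 := by
    intro x hx
    refine ⟨?_, hI x hx.2⟩
    have h1 : N I J U x = 0 := hx.1
    have : N I J U (I x) = 0 := by rw [h.NI', h1, map_zero]
    exact this
  have h3 : Nat.card ↥K1 ≠ 3 := by
    have := h.no_three (W := ⊥) (B := K1) (by simp) hK1I
    rwa [AddSubgroup.relIndex_bot_left] at this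
  have hdvd : Nat.card ↥K1 ∣ 9 := by
    rw [← hcW]; exact AddSubgroup.card_dvd_of_le inf_le_right
  have hne1 : Nat.card ↥K1 ≠ 1 := by
    intro h1
    have hbot : K1 = ⊥ := AddSubgroup.eq_bot_of_card_eq _ h1
    obtain ⟨w, hw, hw0⟩ : ∃ w ∈ W, w ≠ 0 := by
      by_contra hcon
      push Not at hcon
      have : W = ⊥ := by
        rw [eq_bot_iff]; intro x hx; exact hcon x hx
      rw [this] at hcW
      simp at hcW
    have key : ∀ x ∈ W, N I J U x = 0 → x = 0 := by
      intro x hx hx0
      have : x ∈ K1 := ⟨hx0, hx⟩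
      rw [hbot] at this
      exact this
    exact hw0 (key w hw (key _ (hN _ hw) (key _ (hN _ (hN _ hw)) (h.N3' w))))
  have h9 : Nat.card ↥K1 = 9 := by
    exact eq_nine hdvd hne1 h3
  have hEq : K1 = W := AddSubgroup.eq_of_le_of_card_ge inf_le_right (by rw [h9, hcW])
  intro x hx
  rw [← hEq] at hx
  exact hx.1

/-- `N` maps `M` into `W` -/
theorem Ops.N_M (h : Ops I J U) [Finite M] {W : AddSubgroup M}
    (hI : ∀ x ∈ W, I x ∈ W) (hJ : ∀ x ∈ W, J x ∈ W) (hU : ∀ x ∈ W, U x ∈ W)
    (hcW : Nat.card ↥W = 9) (hcM : Nat.card M = 81) : ∀ x, N I J U x ∈ W := by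
  let K2 : AddSubgroup M := AddSubgroup.comap (N (R := AddMonoid.End M) I J U) W
  have hWK : W ≤ K2 := by
    intro x hx
    have := h.N_W hI hJ hU hcW x hx
    show N I J U x ∈ W
    rw [this]; exact W.zero_mem
  have hK2I : ∀ x ∈ K2, I x ∈ K2 := by
    intro x hx
    have h1 : N I J U x ∈ W := hx
    show N I J U (I x) ∈ W
    rw [h.NI']; exact hI _ h1
  have h3 := h.no_three hI hK2I
  have hc := card_mul_relIndex' hWK
  have hdvd : Nat.card ↥K2 ∣ 81 := by rw [← hcM]; exact AddSubgroup.card_addSubgroup_dvd_card K2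
  have hne1 : W.relIndex K2 ≠ 1 := by
    intro h1
    have hle : K2 ≤ W := AddSubgroup.relIndex_eq_one.1 h1
    have key : ∀ x, N I J U x ∈ W → x ∈ W := fun x hx => hle hx
    have htop : ∀ x, x ∈ W := by
      intro x
      apply key; apply key; apply key
      rw [h.N3']; exact W.zero_mem
    have : W = ⊤ := by rw [eq_top_iff]; intro x _; exact htop x
    rw [this] at hcW
    rw [AddSubgroup.card_top, hcM] at hcW
    omega
  rw [hcW] at hc
  have h9 : W.relIndex K2 = 9 := by
    have h4 : W.relIndex K2 ∣ 9 := by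
      have : 9 * W.relIndex K2 ∣ 9 * 9 := by rw [hc]; exact hdvd
      exact Nat.dvd_of_mul_dvd_mul_left (by norm_num) this
    exact eq_nine h4 hne1 h3
  have hEq : K2 = ⊤ := by
    apply AddSubgroup.eq_top_of_card_eq
    rw [← hc, h9, hcM]
  intro x
  have : x ∈ K2 := by rw [hEq]; trivial
  exact this

/-- between `W` and `M`: every `x ∉ W` generates `M` modulo `W` together with `I x` -/
theorem Ops.span (h : Ops I J U) [Finite M] {W : AddSubgroup M}
    (hI : ∀ x ∈ W, I x ∈ W) (hcW : Nat.card ↥W = 9) (hcM : Nat.card M = 81) {x : M} (hx : x ∉ W) (y : M) :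
    ∃ a b : ℤ, ∃ w ∈ W, y = w + a • x + b • I x := by
  let P : AddSubgroup M := W ⊔ AddSubgroup.zmultiples x ⊔ AddSubgroup.zmultiples (I x)
  have hmem : ∀ z, z ∈ P ↔ ∃ a b : ℤ, ∃ w ∈ W, z = w + a • x + b • I x := by
    intro z
    constructor
    · intro hz
      obtain ⟨u, hu, v, hv, rfl⟩ := AddSubgroup.mem_sup.1 hz
      obtain ⟨w, hw, v', hv', rfl⟩ := AddSubgroup.mem_sup.1 hu
      obtain ⟨a, rfl⟩ := AddSubgroup.mem_zmultiples_iff.1 hv'
      obtain ⟨b, rfl⟩ := AddSubgroup.mem_zmultiples_iff.1 hv
      exact ⟨a, b, w, hw, rfl⟩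
    · rintro ⟨a, b, w, hw, rfl⟩
      exact AddSubgroup.add_mem_sup (AddSubgroup.add_mem_sup hw (AddSubgroup.zsmul_mem_zmultiples x a))
        (AddSubgroup.zsmul_mem_zmultiples (I x) b)
  have hWP : W ≤ P := le_sup_left.trans le_sup_left
  have hPI : ∀ z ∈ P, I z ∈ P := by
    intro z hz
    obtain ⟨a, b, w, hw, rfl⟩ := (hmem z).1 hz
    rw [hmem]
    refine ⟨-b, a, I w, hI w hw, ?_⟩
    rw [map_add, map_add, map_zsmul, map_zsmul, h.II']
    simp only [smul_neg, neg_smul]
    abel
  have h3 := h.no_three hI hPI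
  have hc := card_mul_relIndex' hWP
  have hdvd : Nat.card ↥P ∣ 81 := by rw [← hcM]; exact AddSubgroup.card_addSubgroup_dvd_card P
  have hne1 : W.relIndex P ≠ 1 := by
    intro h1
    have hle : P ≤ W := AddSubgroup.relIndex_eq_one.1 h1
    apply hx; apply hle
    rw [hmem]
    exact ⟨1, 0, 0, W.zero_mem, by simp⟩
  rw [hcW] at hc
  have h9 : W.relIndex P = 9 := by
    have h4 : W.relIndex P ∣ 9 := by
      have : 9 * W.relIndex P ∣ 9 * 9 := by rw [hc]; exact hdvd
      exact Nat.dvd_of_mul_dvd_mul_left (by norm_num) this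
    exact eq_nine h4 hne1 h3
  have hEq : P = ⊤ := by
    apply AddSubgroup.eq_top_of_card_eq
    rw [← hc, h9, hcM]
  exact (hmem y).1 (by rw [hEq]; trivial)

/-- **(L1)** -/
theorem Form.U_eq (h : Ops I J U) (F : Form I J U f) [Finite M] {W : AddSubgroup M}
    (hI : ∀ x ∈ W, I x ∈ W) (hJ : ∀ x ∈ W, J x ∈ W) (hU : ∀ x ∈ W, U x ∈ W)
    (hcW : Nat.card ↥W = 9) (hcM : Nat.card M = 81) : U = 1 + s I J := by
  apply h.U_eq
  have hNW := h.N_W hI hJ hU hcW
  have hNM := h.N_M hI hJ hU hcW hcM
  have hNN : ∀ x, N I J U (N I J U x) = 0 := fun x => hNW _ (hNM x)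
  have hpsi : ∀ x, psi I J U x = x + N I J U x := by intro x; rw [N_apply]; abel
  -- `f (N x) y = - f x (N y)`
  have hadj : ∀ x y, f (N I J U x) y = - f x (N I J U y) := by
    intro x y
    have h1 := F.fpsi h x (y - N I J U y)
    rw [hpsi, hpsi, map_sub, hNN] at h1
    simp only [map_add, map_sub, AddMonoidHom.add_apply, sub_zero] at h1
    have h2 : f x (y - N I J U y + N I J U y) + f (N I J U x) (y - N I J U y + N I J U y)
        = f x (y - N I J U y) := by simpa using h1
    rw [sub_add_cancel, map_sub] at h2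
    have h3 : f (N I J U x) y = (f x y + f (N I J U x) y) - f x y := by abel
    rw [h3, h2]; abel
  have hsym : ∀ x y, f (N I J U x) y = f (N I J U y) x := by
    intro x y
    rw [hadj, F.skew x, neg_neg]
  have hgI : ∀ x, f (N I J U x) (I x) = 0 := by
    intro x
    apply F.two
    have h1 : f (N I J U x) (I x) = - f (N I J U x) (I x) := by
      calc f (N I J U x) (I x) = f (I (N I J U x)) (I (I x)) := (F.fI _ _).symm
        _ = - f (N I J U (I x)) x := by rw [h.II', map_neg, h.NI']
        _ = - f (N I J U x) (I x) := by rw [hsym]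
    nth_rewrite 1 [h1]; simp
  have hgJ : ∀ x, f (N I J U x) (J x) = 0 := by
    intro x
    apply F.two
    have h1 : f (N I J U x) (J x) = - f (N I J U x) (J x) := by
      calc f (N I J U x) (J x) = f (J (N I J U x)) (J (J x)) := (F.fJ _ _).symm
        _ = - f (N I J U (J x)) x := by rw [h.JJ', map_neg, h.NJ']
        _ = - f (N I J U x) (J x) := by rw [hsym]
    nth_rewrite 1 [h1]; simp
  have hgK : ∀ x, f (N I J U x) (I (J x)) = 0 := by
    intro x
    have e : I (J (I (J x))) = -x := by
      rw [h.JI', map_neg, h.II', neg_neg, h.JJ']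
    apply F.two
    have h1 : f (N I J U x) (I (J x)) = - f (N I J U x) (I (J x)) := by
      calc f (N I J U x) (I (J x)) = f (I (J (N I J U x))) (I (J (I (J x)))) := by
            rw [F.fI, F.fJ]
        _ = - f (N I J U (I (J x))) x := by rw [e, map_neg, h.NI', h.NJ']
        _ = - f (N I J U x) (I (J x)) := by rw [hsym]
    nth_rewrite 1 [h1]; simp
  have hgW : ∀ x, ∀ w ∈ W, f (N I J U x) w = 0 := by
    intro x w hw
    rw [hsym, hNW w hw, map_zero, AddMonoidHom.zero_apply]
  have h3A : ∀ x y, (3 : ℤ) • f x y = 0 := by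
    intro x y
    have := h.three_smul y
    have h1 : f x (y + y + y) = 0 := by rw [this, map_zero]
    rw [map_add, map_add] at h1
    rw [← h1]; abel
  -- diagonal
  have hdiag : ∀ x, f (N I J U x) x = 0 := by
    intro x
    by_cases hx : x ∈ W
    · exact hgW x x hx
    · obtain ⟨a, b, w, hw, he⟩ := h.span hI hcW hcM hx (J x)
      have h1 := hgJ x
      rw [he, map_add, map_add, hgW x w hw, map_zsmul, map_zsmul, hgI, smul_zero, add_zero, zero_add] at h1
      have h2 := hgK x
      rw [he, map_add, map_add, map_add, map_add, hgW x _ (hI w hw), map_zsmul, map_zsmul, map_zsmul, map_zsmul,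
        hgI, smul_zero, h.II', zero_add, zero_add, map_neg] at h2
      have h2' : b • f (N I J U x) x = 0 := by
        rw [smul_neg] at h2; exact neg_eq_zero.1 h2
      have key : ∀ n : ℤ, n % 3 ≠ 0 → n • f (N I J U x) x = 0 → f (N I J U x) x = 0 := by
        intro n hn hn0
        have h3' := h3A (N I J U x) x
        have hn3 : n % 3 = 1 ∨ n % 3 = 2 := by omega
        rcases hn3 with h0 | h0
        · obtain ⟨k, hk⟩ : ∃ k, n = k * 3 + 1 := ⟨n / 3, by omega⟩
          rw [hk, add_smul, mul_smul, h3', smul_zero, zero_add, one_smul] at hn0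
          exact hn0
        · obtain ⟨k, hk⟩ : ∃ k, n = k * 3 + 2 := ⟨n / 3, by omega⟩
          rw [hk, add_smul, mul_smul, h3', smul_zero, zero_add, two_smul] at hn0
          exact F.two _ hn0
      by_cases ha : a % 3 = 0
      · by_cases hb : b % 3 = 0
        · exfalso
          -- then `J x ∈ W`
          obtain ⟨k, hk⟩ : ∃ k, a = k * 3 := ⟨a / 3, by omega⟩
          obtain ⟨l, hl⟩ : ∃ k, b = k * 3 := ⟨b / 3, by omega⟩
          have h3x : ∀ y : M, (3 : ℤ) • y = 0 := by
            intro y; have := h.three_smul y; rw [← this]; abel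
          rw [hk, hl, mul_smul, mul_smul, h3x, h3x, smul_zero, smul_zero, add_zero, add_zero] at he
          have h5 : J (J x) ∈ W := hJ _ (by rw [he]; exact hw)
          rw [h.JJ'] at h5
          exact hx (by simpa using W.neg_mem h5)
        · exact key b hb h2'
      · exact key a ha h1
  -- conclusion
  have hall : ∀ x, N I J U x = 0 := by
    intro x
    apply F.nd
    intro y
    apply F.two
    have h1 := hdiag (x + y)
    rw [map_add (N I J U), map_add f, map_add, AddMonoidHom.add_apply, AddMonoidHom.add_apply, hdiag, hdiag,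
      zero_add, add_zero, hsym y x] at h1
    exact h1
  ext x
  exact hall x

end Main


section LTwo

variable {M : Type*} [AddCommGroup M] {I J U : AddMonoid.End M}
variable {A : Type*} [AddCommGroup A]
variable {f : M →+ M →+ A}

theorem U_apply (hU : U = 1 + s I J) (x : M) : U x = x + s I J x := by rw [hU]; rfl

/-- `U b = b` implies `J b = b + I b`. -/
theorem Ops.J_fix (h : Ops I J U) (hU : U = 1 + s I J) {b : M} (hb : U b = b) : J b = b + I b := by
  have h1 : s I J b = 0 := by
    rw [U_apply hU] at hb; simpa using hb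
  have h2 : I (s I J b) = 0 := by rw [h1, map_zero]
  rw [s_apply] at h1
  rw [s_apply, map_add, map_add, h.II', h.II'] at h2
  -- h1 : I b + J b + I (J b) = 0 ; h2 : -b + I (J b) + -J b = 0
  have h3 : I b + J b + J b + b = 0 := by
    have : I b + J b + J b + b = (I b + J b + I (J b)) - (-b + I (J b) + -J b) := by abel
    rw [this, h1, h2, sub_zero]
  have h4 := h.three_smul (J b)
  have h5 : J b + J b = - J b := eq_neg_of_add_eq_zero_left h4
  have h6 : I b + -J b + b = 0 := by rw [← h5, ← add_assoc, h3]
  have : J b = (b + I b) - (I b + -J b + b) := by abel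
  rw [this, h6, sub_zero]

theorem Ops.IJ_fix (h : Ops I J U) (hU : U = 1 + s I J) {b : M} (hb : U b = b) : I (J b) = I b - b := by
  rw [h.J_fix hU hb, map_add, h.II']; abel

theorem Ops.U_Ib (h : Ops I J U) (hU : U = 1 + s I J) {b : M} (hb : U b = b) : U (I b) = I b + b := by
  have h1 := h.J_fix hU hb
  have h2 := h.IJ_fix hU hb
  rw [U_apply hU, s_apply, h.II', h.JI', h2, map_neg, map_sub, h.II']
  have h4 := h.three_smul b
  have h5 : b + b = - b := eq_neg_of_add_eq_zero_left h4
  have h6 : -b + -b = b := by rw [← neg_add, h5, neg_neg]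
  calc I b + (-b + -(I b - b) + -(-b - I b)) = I b + (b + b + (-b + I b - I b)) := by abel
    _ = I b + b := by rw [h5]; simp only [add_sub_cancel_right]; rw [h6]

/-- isotropic -/
theorem Form.iso (h : Ops I J U) (F : Form I J U f) (hU : U = 1 + s I J) {b m : M} (hb : U b = b)
    (hm : U m = m + b) (hbm : f b m = 0) : f b (I b) = 0 := by
  have h1 : U (m - I b) = m - I b := by rw [map_sub, hm, h.U_Ib hU hb]; abel
  have h2 : ∀ y, U y = y → f b y = 0 := by
    intro y hy
    have h3 : f (U m) (U y) = f m y := F.fU m y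
    rw [hm, hy, map_add, AddMonoidHom.add_apply] at h3
    simpa using h3
  have h3 := h2 _ h1
  rw [map_sub, hbm, zero_sub, neg_eq_zero] at h3
  exact h3

end LTwo

section LemA

variable {V : Type*} [AddCommGroup V]

/-- **Lemma A**: on an irreducible module of order `9` for `SL(2,3)` the central involution acts as `-1`. -/
theorem neg_of_irr {I J U T : AddMonoid.End V} (hcard : Nat.card V = 9) (h3 : ∀ x : V, x + x + x = 0)
    (II : ∀ x, I (I x) = T x) (JJ : ∀ x, J (J x) = T x) (JI : ∀ x, J (I x) = T (I (J x)))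
    (UI : ∀ x, U (I x) = J (U x)) (UJ : ∀ x, U (J x) = I (J (U x))) (U3 : ∀ x, U (U (U x)) = x)
    (TT : ∀ x, T (T x) = x)
    (irr : ∀ X : AddSubgroup V, (∀ x ∈ X, I x ∈ X) → (∀ x ∈ X, J x ∈ X) → (∀ x ∈ X, U x ∈ X) → X = ⊥ ∨ X = ⊤) :
    ∀ x, T x = -x := by
  have hfin : Finite V := Nat.finite_of_card_ne_zero (by rw [hcard]; norm_num)
  have two : ∀ x : V, x = -x → x = 0 := by
    intro x hx
    have := h3 x
    nth_rewrite 1 [hx] at this
    simpa using this
  have TI : ∀ x, T (I x) = I (T x) := by intro x; rw [← II, ← II]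
  have TJ : ∀ x, T (J x) = J (T x) := by intro x; rw [← JJ, ← JJ]
  have TU : ∀ x, T (U x) = U (T x) := by intro x; rw [← JJ, ← UI, ← UI, II]
  let X : AddSubgroup V :=
    { carrier := {x | T x = x}
      zero_mem' := map_zero T
      add_mem' := by intro a b ha hb; show T (a + b) = a + b; rw [map_add, ha, hb]
      neg_mem' := by intro a ha; show T (-a) = -a; rw [map_neg, ha] }
  have hXm : ∀ x, x ∈ X ↔ T x = x := fun x => Iff.rfl
  rcases irr X (fun x hx => by rw [hXm, TI, (hXm x).1 hx]) (fun x hx => by rw [hXm, TJ, (hXm x).1 hx])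
    (fun x hx => by rw [hXm, TU, (hXm x).1 hx]) with hX | hX
  · intro x
    have h1 : x + T x ∈ X := by rw [hXm, map_add, TT, add_comm]
    rw [hX, AddSubgroup.mem_bot] at h1
    exact eq_neg_of_add_eq_zero_right h1
  · exfalso
    have T1 : ∀ x, T x = x := fun x => (hXm x).1 (by rw [hX]; trivial)
    simp only [T1] at II JJ JI
    have cardcontra : ∀ x : V, x ≠ 0 → AddSubgroup.zmultiples x ≠ ⊤ := by
      intro x hx htop
      have h1 : Nat.card ↥(AddSubgroup.zmultiples x) = addOrderOf x := Nat.card_zmultiples x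
      have h2 : addOrderOf x ∣ 3 := by
        apply addOrderOf_dvd_of_nsmul_eq_zero
        rw [← h3 x]; abel
      have h4 : Nat.card ↥(AddSubgroup.zmultiples x) = 9 := by rw [htop, AddSubgroup.card_top, hcard]
      rw [h1] at h4
      rw [h4] at h2
      omega
    let Y : AddSubgroup V :=
      { carrier := {x | I x = x ∧ J x = x}
        zero_mem' := ⟨map_zero I, map_zero J⟩
        add_mem' := by
          intro a b ha hb
          exact ⟨by rw [map_add, ha.1, hb.1], by rw [map_add, ha.2, hb.2]⟩
        neg_mem' := by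
          intro a ha
          exact ⟨by rw [map_neg, ha.1], by rw [map_neg, ha.2]⟩ }
    have hYm : ∀ x, x ∈ Y ↔ (I x = x ∧ J x = x) := fun x => Iff.rfl
    rcases irr Y (fun x hx => by
        have := (hYm x).1 hx
        rw [hYm]; rw [this.1]; exact this)
      (fun x hx => by
        have := (hYm x).1 hx
        rw [hYm]; rw [this.2]; exact this)
      (fun x hx => by
        have h1 := (hYm x).1 hx
        have h2 : J (U x) = U x := by rw [← UI, h1.1]
        have h3 : I (J (U x)) = U x := by rw [← UJ, h1.2]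
        rw [hYm]
        exact ⟨by rw [h2] at h3; exact h3, h2⟩) with hY | hY
    · -- no fixed points
      have E : ∀ x, x + I x + J x + I (J x) = 0 := by
        intro x
        have : x + I x + J x + I (J x) ∈ Y := by
          rw [hYm]
          constructor
          · simp only [map_add, II]; abel
          · simp only [map_add, JI, JJ]; abel
        rw [hY, AddSubgroup.mem_bot] at this
        exact this
      -- a vector of weight (-1, 1)
      obtain ⟨a, ha0, haI, haJ⟩ : ∃ a : V, a ≠ 0 ∧ I a = -a ∧ J a = a := by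
        -- first some `x ≠ 0` with `I x = -x`
        obtain ⟨x, hx0, hxI⟩ : ∃ x : V, x ≠ 0 ∧ I x = -x := by
          by_contra hcon
          push Not at hcon
          have hI1 : ∀ x, I x = x := by
            intro x
            by_contra hne
            apply hcon (x - I x) (sub_ne_zero.2 (Ne.symm hne))
            rw [map_sub, II]; abel
          have hJ1 : ∀ x, J x = x := by
            intro x
            have h1 := UI (U (U x))
            rw [U3, hI1, U3] at h1
            exact h1.symm
          have hne : Nontrivial V := by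
            by_contra h
            rw [not_nontrivial_iff_subsingleton] at h
            have := Nat.card_of_subsingleton (0 : V)
            omega
          obtain ⟨v, hv⟩ := exists_ne (0 : V)
          have : v ∈ Y := ⟨hI1 v, hJ1 v⟩
          rw [hY, AddSubgroup.mem_bot] at this
          exact hv this
        by_cases hcase : x + J x = 0
        · -- weight (-1,-1)
          have hxJ : J x = -x := eq_neg_of_add_eq_zero_right hcase
          refine ⟨U (U x), ?_, ?_, ?_⟩
          · intro h0
            apply hx0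
            rw [← U3 x, h0, map_zero]
          · have h1 : J (U x) = -U x := by rw [← UI, hxI, map_neg]
            have h2 : I (J (U x)) = -U x := by rw [← UJ, hxJ, map_neg]
            have h3' : I (U x) = U x := by
              rw [h1, map_neg] at h2; exact neg_injective h2
            have h4 : J (U (U x)) = U (U x) := by rw [← UI, h3']
            have h5 : I (J (U (U x))) = - U (U x) := by rw [← UJ, h1, map_neg]
            rw [h4] at h5; exact h5
          · have h1 : J (U x) = -U x := by rw [← UI, hxI, map_neg]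
            have h2 : I (J (U x)) = -U x := by rw [← UJ, hxJ, map_neg]
            have h3' : I (U x) = U x := by
              rw [h1, map_neg] at h2; exact neg_injective h2
            rw [← UI, h3']
        · refine ⟨x + J x, hcase, ?_, ?_⟩
          · have h1 : I (J x) = - J x := by
              have := E x
              rw [hxI] at this
              have h2 : J x + I (J x) = 0 := by simpa using this
              exact eq_neg_of_add_eq_zero_right h2
            rw [map_add, hxI, h1]; abel
          · rw [map_add, JJ]; abel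
      have hUJ : J (U a) = - U a := by rw [← UI, haI, map_neg]
      have hUI : I (U a) = - U a := by
        have h2 : I (J (U a)) = U a := by rw [← UJ, haJ]
        rw [hUJ, map_neg] at h2
        exact neg_eq_iff_eq_neg.1 h2
      have hUUJ : J (U (U a)) = - U (U a) := by rw [← UI, hUI, map_neg]
      have hUUI : I (U (U a)) = U (U a) := by
        have h2 : I (J (U (U a))) = - U (U a) := by rw [← UJ, hUJ, map_neg]
        rw [hUUJ, map_neg] at h2
        exact neg_injective h2
      -- `a, U a` generate
      let P : AddSubgroup V := AddSubgroup.zmultiples a ⊔ AddSubgroup.zmultiples (U a)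
      have hUa0 : U a ≠ 0 := by
        intro h0; apply ha0; rw [← U3 a, h0, map_zero, map_zero]
      have hnot : U a ∉ AddSubgroup.zmultiples a := by
        intro hm
        obtain ⟨n, hn⟩ := AddSubgroup.mem_zmultiples_iff.1 hm
        have h1 : J (U a) = U a := by rw [← hn, map_zsmul, haJ]
        rw [hUJ] at h1
        exact hUa0 (two _ h1.symm)
      have hca : Nat.card ↥(AddSubgroup.zmultiples a) = 3 := by
        rw [Nat.card_zmultiples]
        have h2 : addOrderOf a ∣ 3 := by
          apply addOrderOf_dvd_of_nsmul_eq_zero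
          rw [← h3 a]; abel
        rcases (Nat.dvd_prime Nat.prime_three).1 h2 with h | h
        · rw [AddMonoid.addOrderOf_eq_one_iff] at h; exact absurd h ha0
        · exact h
      have hPtop : P = ⊤ := by
        apply AddSubgroup.eq_top_of_card_eq
        rw [hcard]
        have h1 : Nat.card ↥P ∣ 9 := by rw [← hcard]; exact AddSubgroup.card_addSubgroup_dvd_card P
        have h2 : Nat.card ↥(AddSubgroup.zmultiples a) ∣ Nat.card ↥P := AddSubgroup.card_dvd_of_le le_sup_left
        rw [hca] at h2
        apply eq_nine h1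
        · intro h; rw [h] at h2; omega
        · intro h
          have : AddSubgroup.zmultiples a = P :=
            AddSubgroup.eq_of_le_of_card_ge le_sup_left (by rw [hca, h])
          apply hnot
          rw [this]
          exact (le_sup_right : AddSubgroup.zmultiples (U a) ≤ P) (AddSubgroup.mem_zmultiples _)
      have hIneg : ∀ x, I x = -x := by
        intro x
        have hx : x ∈ P := by rw [hPtop]; trivial
        obtain ⟨u, hu, v, hv, rfl⟩ := AddSubgroup.mem_sup.1 hx
        obtain ⟨m, rfl⟩ := AddSubgroup.mem_zmultiples_iff.1 hu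
        obtain ⟨n, rfl⟩ := AddSubgroup.mem_zmultiples_iff.1 hv
        rw [map_add, map_zsmul, map_zsmul, haI, hUI, smul_neg, smul_neg]; abel
      have := hIneg (U (U a))
      rw [hUUI] at this
      have h0 := two _ this
      apply ha0
      rw [← U3 a, h0, map_zero]
    · -- `I = J = 1`
      have hI1 : ∀ x, I x = x := fun x => ((hYm x).1 (by rw [hY]; trivial)).1
      have hJ1 : ∀ x, J x = x := fun x => ((hYm x).1 (by rw [hY]; trivial)).2
      let X' : AddSubgroup V :=
        { carrier := {x | U x = x}
          zero_mem' := map_zero U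
          add_mem' := by intro a b ha hb; show U (a + b) = a + b; rw [map_add, ha, hb]
          neg_mem' := by intro a ha; show U (-a) = -a; rw [map_neg, ha] }
      have hX'm : ∀ x, x ∈ X' ↔ U x = x := fun x => Iff.rfl
      have hne : Nontrivial V := by
        by_contra h
        rw [not_nontrivial_iff_subsingleton] at h
        have := Nat.card_of_subsingleton (0 : V)
        omega
      obtain ⟨v, hv⟩ := exists_ne (0 : V)
      rcases irr X' (fun x hx => by rw [hI1]; exact hx) (fun x hx => by rw [hJ1]; exact hx)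
        (fun x hx => by rw [hX'm, (hX'm x).1 hx]; exact (hX'm x).1 hx) with hX' | hX'
      · -- no fixed vector: impossible
        have key : ∀ x, U x - x = 0 → x = 0 := by
          intro x hx
          have : x ∈ X' := sub_eq_zero.1 hx
          rw [hX', AddSubgroup.mem_bot] at this
          exact this
        have hN : (U (U (U v - v) - (U v - v)) - (U (U v - v) - (U v - v))) = 0 := by
          simp only [map_sub, U3]
          have h1 := h3 (U v)
          have h2 := h3 (U (U v))
          calc _ = (U v + U v + U v) - (U (U v) + U (U v) + U (U v)) := by abel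
            _ = 0 := by rw [h1, h2, sub_zero]
        exact hv (key _ (key _ (key _ hN)))
      · have hU1 : ∀ x, U x = x := fun x => (hX'm x).1 (by rw [hX']; trivial)
        rcases irr (AddSubgroup.zmultiples v) (fun x hx => by rw [hI1]; exact hx)
          (fun x hx => by rw [hJ1]; exact hx) (fun x hx => by rw [hU1]; exact hx) with h | h
        · apply hv
          have := AddSubgroup.mem_zmultiples v
          rw [h, AddSubgroup.mem_bot] at this
          exact this
        · exact cardcontra v hv h

end LemA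

end Cfsg.Agent.H352.L43
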