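import Mathlib
import Cfsg.Prelude.Def_Transfer
import Cfsg.Agent.H352.L43.Lin

/-!
# The module `Q / Z` of an extraspecial normal subgroup (helper352)

`MM Q = Additive (Abelianization Q)`, the commutator form and the action of the normalizer of `Q`.
-/

set_option autoImplicit false

namespace Cfsg.Agent.H352.L43

open scoped commutatorElement IsMulCommutative

section Pairing

variable {P : Type*} [Group P]

/-- `b ↦ [a, b]` -/
def pairHom (hc : ∀ a b : P, ⁅a, b⁆ ∈ Subgroup.center P) (a : P) : P →* ↥(Subgroup.center P) where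
  toFun b := ⟨⁅a, b⁆, hc a b⟩
  map_one' := by
    apply Subtype.ext
    simp
  map_mul' b c := by
    apply Subtype.ext
    show ⁅a, b * c⁆ = ⁅a, b⁆ * ⁅a, c⁆
    have h1 := Subgroup.mem_center_iff.1 (hc a c) b
    rw [commutatorElement_def, commutatorElement_def, commutatorElement_def] at *
    calc a * (b * c) * a⁻¹ * (b * c)⁻¹ = a * b * a⁻¹ * (a * c * a⁻¹ * c⁻¹) * b⁻¹ := by group
      _ = a * b * a⁻¹ * b⁻¹ * (b * (a * c * a⁻¹ * c⁻¹)) * b⁻¹ := by group
      _ = a * b * a⁻¹ * b⁻¹ * ((a * c * a⁻¹ * c⁻¹) * b) * b⁻¹ := by rw [h1]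
      _ = a * b * a⁻¹ * b⁻¹ * (a * c * a⁻¹ * c⁻¹) := by group

theorem comm_mul_left (hc : ∀ a b : P, ⁅a, b⁆ ∈ Subgroup.center P) (a b c : P) :
    ⁅a * b, c⁆ = ⁅a, c⁆ * ⁅b, c⁆ := by
  have h1 := (pairHom hc c).map_mul a b
  have h2 := congrArg Subtype.val h1
  have h3 : ⁅c, a * b⁆ = ⁅c, a⁆ * ⁅c, b⁆ := h2
  have h4 : ⁅c, b⁆⁻¹ * ⁅c, a⁆⁻¹ = ⁅c, a⁆⁻¹ * ⁅c, b⁆⁻¹ := by
    have := Subgroup.mem_center_iff.1 (hc c a) (⁅c, b⁆)
    rw [← mul_inv_rev, ← mul_inv_rev, this]
  rw [← commutatorElement_inv c, h3, mul_inv_rev, h4, commutatorElement_inv, commutatorElement_inv]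

/-- the commutator pairing on the abelianization -/
def pairAb (hc : ∀ a b : P, ⁅a, b⁆ ∈ Subgroup.center P) :
    Abelianization P →* (Abelianization P →* ↥(Subgroup.center P)) :=
  Abelianization.lift
    { toFun := fun a => Abelianization.lift (pairHom hc a)
      map_one' := by
        apply Abelianization.hom_ext
        ext b
        simp [pairHom]
      map_mul' := by
        intro a a'
        apply Abelianization.hom_ext
        ext b
        simp only [MonoidHom.comp_apply, Abelianization.lift_apply_of, MonoidHom.mul_apply]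
        exact comm_mul_left hc a a' b }

/-- the commutator form -/
def pair (hc : ∀ a b : P, ⁅a, b⁆ ∈ Subgroup.center P) :
    Additive (Abelianization P) →+ Additive (Abelianization P) →+ Additive ↥(Subgroup.center P) :=
  AddMonoidHom.mk' (fun x => MonoidHom.toAdditive (pairAb hc x.toMul)) (by
    intro x y
    ext z
    simp [map_mul])

/-- the class of an element -/
def bar (a : P) : Additive (Abelianization P) := Additive.ofMul (Abelianization.of a)

theorem pair_bar (hc : ∀ a b : P, ⁅a, b⁆ ∈ Subgroup.center P) (a b : P) :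
    pair hc (bar a) (bar b) = Additive.ofMul ⟨⁅a, b⁆, hc a b⟩ := rfl

theorem bar_mul (a b : P) : bar (a * b) = bar a + bar b := by
  unfold bar; rw [map_mul]; rfl

theorem bar_inv (a : P) : bar (a⁻¹) = - bar a := by
  unfold bar; rw [map_inv]; rfl

theorem bar_one : bar (1 : P) = 0 := by unfold bar; rw [map_one]; rfl

theorem bar_eq_zero {a : P} : bar a = 0 ↔ a ∈ commutator P := by
  unfold bar
  rw [← Abelianization.ker_of, MonoidHom.mem_ker]
  exact Iff.rfl

theorem bar_surj (x : Additive (Abelianization P)) : ∃ a : P, bar a = x := by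
  obtain ⟨a, ha⟩ := QuotientGroup.mk_surjective (s := commutator P) x.toMul
  exact ⟨a, ha⟩

end Pairing

section Perp

variable {P : Type*} [Group P]

theorem mem_ker_pairHom (hc : ∀ a b : P, ⁅a, b⁆ ∈ Subgroup.center P) {y a : P} :
    a ∈ (pairHom hc y).ker ↔ y * a = a * y := by
  rw [MonoidHom.mem_ker, Subtype.ext_iff]
  show ⁅y, a⁆ = 1 ↔ _
  rw [commutatorElement_eq_one_iff_mul_comm]

theorem index_ker_pairHom (hc : ∀ a b : P, ⁅a, b⁆ ∈ Subgroup.center P)
    (h3 : Nat.card ↥(Subgroup.center P) = 3) {y : P} (hy : y ∉ Subgroup.center P) :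
    (pairHom hc y).ker.index = 3 := by
  rw [Subgroup.index_ker]
  have h1 : Nat.card ↥(pairHom hc y).range ∣ 3 := by
    rw [← h3]; exact Subgroup.card_subgroup_dvd_card _
  rcases (Nat.dvd_prime Nat.prime_three).1 h1 with h | h
  · exfalso
    apply hy
    have hbot := Subgroup.eq_bot_of_card_eq _ h
    rw [Subgroup.mem_center_iff]
    intro a
    have : a ∈ (pairHom hc y).ker := by
      rw [MonoidHom.mem_ker]
      have h2 : pairHom hc y a ∈ (pairHom hc y).range := ⟨a, rfl⟩
      rw [hbot] at h2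
      exact h2
    exact ((mem_ker_pairHom hc).1 this).symm
  · exact h

/-- if everything commuting with `y₁` commutes with `y₂`, then `y₂ ∈ ⟨y₁⟩ Z(P)`. -/
theorem exists_zpow (hc : ∀ a b : P, ⁅a, b⁆ ∈ Subgroup.center P)
    (h3 : Nat.card ↥(Subgroup.center P) = 3) {y₁ y₂ : P} (hy : y₁ ∉ Subgroup.center P)
    (hle : (pairHom hc y₁).ker ≤ (pairHom hc y₂).ker) : ∃ k : ℤ, y₂ * y₁ ^ k ∈ Subgroup.center P := by
  have hp : Fact (Nat.Prime 3) := ⟨Nat.prime_three⟩
  have hidx := index_ker_pairHom hc h3 hy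
  obtain ⟨q, hq⟩ : ∃ q, q ∉ (pairHom hc y₁).ker := by
    by_contra hcon
    push Not at hcon
    have : (pairHom hc y₁).ker = ⊤ := by rw [eq_top_iff]; intro x _; exact hcon x
    rw [this, Subgroup.index_top] at hidx
    omega
  have hz1 : pairHom hc q y₁ ≠ 1 := by
    intro h1
    apply hq
    rw [mem_ker_pairHom]
    exact ((mem_ker_pairHom hc).1 (MonoidHom.mem_ker.2 h1)).symm
  have htop := zpowers_eq_top_of_prime_card h3 hz1
  have hm : (pairHom hc q y₂)⁻¹ ∈ Subgroup.zpowers (pairHom hc q y₁) := by rw [htop]; trivial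
  obtain ⟨k, hk⟩ := Subgroup.mem_zpowers_iff.1 hm
  refine ⟨k, ?_⟩
  -- `y₂ y₁ ^ k` commutes with `q` and with the kernel
  have hq' : pairHom hc q (y₂ * y₁ ^ k) = 1 := by
    rw [map_mul, map_zpow, hk, mul_inv_cancel]
  have hcomm : ∀ a ∈ (pairHom hc y₁).ker, y₂ * y₁ ^ k * a = a * (y₂ * y₁ ^ k) := by
    intro a ha
    have h1 := (mem_ker_pairHom hc).1 ha
    have h2 := (mem_ker_pairHom hc).1 (hle ha)
    have c1 : Commute y₁ a := h1
    have c2 : Commute y₂ a := h2
    exact (c2.mul_left (c1.zpow_left k))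
  have hker : (pairHom hc (y₂ * y₁ ^ k)).ker = ⊤ := by
    have hlt : (pairHom hc y₁).ker < (pairHom hc (y₂ * y₁ ^ k)).ker := by
      refine lt_of_le_of_ne (fun a ha => (mem_ker_pairHom hc).2 (hcomm a ha)) ?_
      intro heq
      apply hq
      rw [heq, mem_ker_pairHom]
      exact ((mem_ker_pairHom hc).1 (MonoidHom.mem_ker.2 hq')).symm
    have h1 : (pairHom hc (y₂ * y₁ ^ k)).ker.index ∣ 3 := by
      rw [← hidx]; exact Subgroup.index_dvd_of_le hlt.le
    rcases (Nat.dvd_prime Nat.prime_three).1 h1 with h | h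
    · exact Subgroup.index_eq_one.1 h
    · exfalso
      have h2 := Subgroup.relIndex_mul_index hlt.le
      rw [h, hidx] at h2
      have h4 : (pairHom hc y₁).ker.relIndex (pairHom hc (y₂ * y₁ ^ k)).ker = 1 := by omega
      exact (not_le_of_gt hlt) (Subgroup.relIndex_eq_one.1 h4)
  rw [Subgroup.mem_center_iff]
  intro a
  have : a ∈ (pairHom hc (y₂ * y₁ ^ k)).ker := by rw [hker]; trivial
  exact ((mem_ker_pairHom hc).1 this).symm

theorem relIndex_two (hc : ∀ a b : P, ⁅a, b⁆ ∈ Subgroup.center P)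
    (h3 : Nat.card ↥(Subgroup.center P) = 3) {y₁ y₂ : P} (hy : y₁ ∉ Subgroup.center P)
    (hy2 : ∀ k : ℤ, y₂ * y₁ ^ k ∉ Subgroup.center P) :
    ((pairHom hc y₁).ker ⊓ (pairHom hc y₂).ker).index = 9 := by
  have hnle : ¬ (pairHom hc y₁).ker ≤ (pairHom hc y₂).ker := by
    intro hle
    obtain ⟨k, hk⟩ := exists_zpow hc h3 hy hle
    exact hy2 k hk
  have hy2' : y₂ ∉ Subgroup.center P := by
    have := hy2 0
    simpa using this
  have h1 := index_ker_pairHom hc h3 hy
  have h2 := index_ker_pairHom hc h3 hy2'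
  have h4 : (pairHom hc y₂).ker.relIndex (pairHom hc y₁).ker = 3 := by
    have h5 : (pairHom hc y₂).ker.relIndex (pairHom hc y₁).ker ∣ 3 := by
      rw [← h2]; exact Subgroup.relIndex_dvd_index_of_normal _ _
    rcases (Nat.dvd_prime Nat.prime_three).1 h5 with h | h
    · exact absurd (Subgroup.relIndex_eq_one.1 h) hnle
    · exact h
  have h5 := Subgroup.relIndex_mul_index (inf_le_left : (pairHom hc y₁).ker ⊓ (pairHom hc y₂).ker ≤ _)
  rw [Subgroup.inf_relIndex_left, h4, h1] at h5
  exact h5.symm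

end Perp

section Act

variable {P : Type*} [Group P]

/-- automorphisms of `P` act on `P / P'` -/
def actHom (P : Type*) [Group P] : MulAut P →* AddMonoid.End (Additive (Abelianization P)) where
  toFun φ := MonoidHom.toAdditive (Abelianization.map φ.toMonoidHom)
  map_one' := by
    ext x
    obtain ⟨a, rfl⟩ := bar_surj x
    rfl
  map_mul' φ ψ := by
    ext x
    obtain ⟨a, rfl⟩ := bar_surj x
    rfl

theorem actHom_bar (φ : MulAut P) (a : P) : actHom P φ (bar a) = bar (φ a) := rfl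

variable {G : Type*} [Group G] (Q : Subgroup G)

/-- the normalizer of `Q` acts on `Q / Q'` -/
def act : ↥(Subgroup.normalizer (Q : Set G)) →* AddMonoid.End (Additive (Abelianization ↥Q)) :=
  (actHom ↥Q).comp Q.normalizerMonoidHom

theorem act_bar (g : ↥(Subgroup.normalizer (Q : Set G))) (a b : ↥Q) (h : (b : G) = g * a * (g : G)⁻¹) :
    act Q g (bar a) = bar b := by
  show bar (Q.normalizerMonoidHom g a) = bar b
  congr 1
  apply Subtype.ext
  rw [h]
  rfl

end Act

end Cfsg.Agent.H352.L43
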