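import Cfsg.Agent.H352.L43.Para
import Cfsg.Agent.H352.L43.ElOf
import Cfsg.Agent.H352.Elim.Kill

/-!
# The recognition of `L₄(3)`: assembly (helper352)
-/

set_option autoImplicit false

namespace Cfsg.Agent.H352.L43

open Cfsg Subgroup

universe u

theorem final (T : OrdDiv.OrderTable.{u}) (KS : ∀ (S : Type u) [Group S] [Finite S] [IsSimpleGroup S], IsKnownSimple' S)
    {G : Type u} [Group G] [Finite G] {Z Q A : Subgroup G} (h : Loc43 Z Q A)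
    {π : ↥(centralizer (Z : Set G)) →* S3} (hπ : Cov Z Q π) (hg : Good h.cfg π) (S : Sylow 3 G)
    (hS : Z = (S : Subgroup G) ⊓ centralizer ((S : Subgroup G) : Set G)) :
    Nonempty (G ≃* Matrix.ProjectiveSpecialLinearGroup (Fin 4) (ZMod 3)) ∨
    ∃ (P : Subgroup (Matrix.ProjectiveSpecialLinearGroup (Fin 4) (ZMod 3))),
      IsCoatom P ∧ Nat.card (Cfsg.pCore 3 P) = 27 ∧
      Nonempty (P ⧸ Cfsg.pCore 3 P ≃* Matrix.SpecialLinearGroup (Fin 3) (ZMod 3)) ∧ Nonempty (G ≃* P) := by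
  by_cases h3 : Cfsg.pCore 3 G = ⊥
  · left
    have := h.simple S hS h3
    exact Elim.psl43 (Elim.elim' T (KS G) (h.el S hS))
  · right
    exact h.parabolic hπ hg S hS h3

theorem main (T : OrdDiv.OrderTable.{u}) (KS : ∀ (S : Type u) [Group S] [Finite S] [IsSimpleGroup S], IsKnownSimple' S)
    {G : Type u} [Group G] [Finite G]
    (S : Sylow 3 G) (Z : Subgroup G) (hZ : Z = (S : Subgroup G) ⊓ Subgroup.centralizer ((S : Subgroup G) : Set G))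
    (C : Subgroup G) (hCZ : C = Subgroup.centralizer (Z : Set G))
    (Q : Subgroup G) (hQ : Q = (Cfsg.pCore 3 C).map C.subtype)
    (hQex : Cfsg.IsExtraspecial 3 Q) (hQcard : Nat.card Q = 3 ^ 5) (hQexp : ∀ a ∈ Q, a ^ 3 = 1)
    (hCQ : Subgroup.centralizer (Q : Set G) ≤ Q)
    (hZQ : ∃ x : G, Z.map (MulAut.conj x).toMonoidHom ≤ Q ∧ Z.map (MulAut.conj x).toMonoidHom ≠ Z)
    (K : Subgroup G) (hK : K = ((Cfsg.pResidual 2 (C ⧸ Cfsg.pCore 3 C)).comap (QuotientGroup.mk' (Cfsg.pCore 3 C))).map C.subtype)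
    (r : ℕ) (A : Fin (r + 1) → Subgroup G) (hA0 : A 0 = Z) (hAr : A (Fin.last r) = Q)
    (hmono : ∀ i : Fin r, A i.castSucc < A i.succ)
    (hinv : ∀ i : Fin (r + 1), ∀ k ∈ K, ∀ a ∈ A i, k * a * k⁻¹ ∈ A i)
    (hmax : ∀ i : Fin r, ∀ B : Subgroup G, A i.castSucc < B → B < A i.succ → ∃ k ∈ K, ∃ b ∈ B, k * b * k⁻¹ ∉ B)
    (e : C ⧸ Cfsg.pCore 3 C ≃* Matrix.SpecialLinearGroup (Fin 2) (ZMod 3))
    (htwo : ∃ i j : Fin r, i ≠ j ∧ (∃ k ∈ K, ∃ a ∈ A i.succ, k * a * k⁻¹ * a⁻¹ ∉ A i.castSucc) ∧ (∃ k ∈ K, ∃ a ∈ A j.succ, k * a * k⁻¹ * a⁻¹ ∉ A j.castSucc) ∧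
      ∀ l : Fin r, (∃ k ∈ K, ∃ a ∈ A l.succ, k * a * k⁻¹ * a⁻¹ ∉ A l.castSucc) → l = i ∨ l = j) :
    Nonempty (G ≃* Matrix.ProjectiveSpecialLinearGroup (Fin 4) (ZMod 3)) ∨
    ∃ (P : Subgroup (Matrix.ProjectiveSpecialLinearGroup (Fin 4) (ZMod 3))),
      IsCoatom P ∧ Nat.card (Cfsg.pCore 3 P) = 27 ∧
      Nonempty (P ⧸ Cfsg.pCore 3 P ≃* Matrix.SpecialLinearGroup (Fin 3) (ZMod 3)) ∧ Nonempty (G ≃* P) := by
  subst hCZ
  have hcfg := cfg_of S Z hZ Q hQ hQex hQcard hQexp hCQ e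
  have hπ := cov_of hQ e
  obtain ⟨i, j, hij, hi, hj, -⟩ := htwo
  have hKC : K ≤ centralizer (Z : Set G) := by rw [hK]; exact Subgroup.map_subtype_le _
  have hCK : centralizer (Z : Set G) ≤ K := by
    rw [hK]; intro c hc; exact mem_K e hc
  have hKeq : K = centralizer (Z : Set G) := le_antisymm hKC hCK
  rw [hKeq] at hinv hmax hi hj
  have hgood : Good hcfg (piOf e) := by
    rcases lt_or_gt_of_ne hij with hlt | hlt
    · exact good_of_chain' hcfg hπ hA0 hAr hmono hinv hmax hlt hi hj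
    · exact good_of_chain' hcfg hπ hA0 hAr hmono hinv hmax hlt hj hi
  obtain ⟨x, hx1, hx2⟩ := hZQ
  have t : Two Z Q (Z.map (MulAut.conj x).toMonoidHom) (Q.map (MulAut.conj x).toMonoidHom) :=
    ⟨hcfg, hcfg.map (MulAut.conj x), hx1, hx2⟩
  have hloc := loc_of t hπ hgood
  exact final T KS hloc hπ hgood S hZ

end Cfsg.Agent.H352.L43
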