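import Mathlib
import Cfsg.Prelude.Def_Solvable
import Cfsg.Prelude.Def_Transfer
import Cfsg.Agent.Lib.Cores
import Cfsg.Agent.H352.L43.Chain

/-!
# The hypotheses of the 3-local recognition of `PSL(4,3)` (helper352)
-/

set_option autoImplicit false

namespace Cfsg.Agent.H352.L43

open scoped commutatorElement IsMulCommutative
open Subgroup Cfsg
open Cfsg.Agent.Lib.Cores

variable {G : Type*} [Group G] [Finite G]

set_option maxRecDepth 100000 in
theorem card_S3 : Nat.card S3 = 24 := by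
  rw [Nat.card_eq_fintype_card]; decide

/-- **`Cfg` from the hypotheses.** -/
theorem cfg_of (S : Sylow 3 G) (Z : Subgroup G)
    (hZ : Z = (S : Subgroup G) ⊓ Subgroup.centralizer ((S : Subgroup G) : Set G))
    (Q : Subgroup G) (hQ : Q = (Cfsg.pCore 3 ↥(centralizer (Z : Set G))).map (centralizer (Z : Set G)).subtype)
    (hQex : Cfsg.IsExtraspecial 3 Q) (hQcard : Nat.card Q = 3 ^ 5) (hQexp : ∀ a ∈ Q, a ^ 3 = 1)
    (hCQ : Subgroup.centralizer (Q : Set G) ≤ Q)
    (e : ↥(centralizer (Z : Set G)) ⧸ Cfsg.pCore 3 ↥(centralizer (Z : Set G)) ≃* S3) : Cfg Z Q := by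
  have hp : Fact (Nat.Prime 3) := ⟨Nat.prime_three⟩
  have hQC : Q ≤ centralizer (Z : Set G) := by rw [hQ]; exact Subgroup.map_subtype_le _
  have hcen3 : Nat.card ↥(center ↥Q) = 3 := hQex.2
  -- `Z ≤ Q`
  have hZQ : Z ≤ Q := by
    intro z hz
    apply hCQ
    rw [Subgroup.mem_centralizer_iff]
    intro q hq
    exact (Subgroup.mem_centralizer_iff.1 (hQC hq) z hz).symm
  have hZcen : Z.subgroupOf Q ≤ center ↥Q := by
    intro z hz
    rw [Subgroup.mem_center_iff]
    intro q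
    apply Subtype.ext
    exact (Subgroup.mem_centralizer_iff.1 (hQC q.2) z hz).symm
  have hZdvd : Nat.card ↥Z ∣ 3 := by
    rw [← hcen3, ← Nat.card_congr (Subgroup.subgroupOfEquivOfLe hZQ).toEquiv]
    exact Subgroup.card_dvd_of_le hZcen
  have hZ1 : Nat.card ↥Z ≠ 1 := by
    intro h1
    have hbot := Subgroup.eq_bot_of_card_eq _ h1
    -- `S` is nontrivial
    have h3 : 3 ∣ Nat.card G := by
      have h2 : Nat.card ↥Q ∣ Nat.card G := Subgroup.card_subgroup_dvd_card Q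
      rw [hQcard] at h2
      exact (dvd_pow_self 3 (by norm_num)).trans h2
    have hSne : Nontrivial ↥(S : Subgroup G) := by
      have h4 : 3 ∣ Nat.card ↥(S : Subgroup G) := S.dvd_card_of_dvd_card h3
      rw [← Finite.one_lt_card_iff_nontrivial]
      have h5 : 0 < Nat.card ↥(S : Subgroup G) := Nat.card_pos
      have := Nat.le_of_dvd h5 h4
      omega
    have hcn := S.isPGroup'.center_nontrivial
    obtain ⟨⟨x, hx⟩, hx1⟩ := exists_ne (1 : ↥(center ↥(S : Subgroup G)))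
    have hxZ : (x : G) ∈ Z := by
      rw [hZ]
      refine ⟨x.2, Subgroup.mem_centralizer_iff.2 ?_⟩
      intro s hs
      have := Subgroup.mem_center_iff.1 hx ⟨s, hs⟩
      exact congrArg Subtype.val this
    rw [hbot, Subgroup.mem_bot] at hxZ
    apply hx1
    apply Subtype.ext
    apply Subtype.ext
    exact hxZ
  have hZ3 : Nat.card ↥Z = 3 := ((Nat.dvd_prime Nat.prime_three).1 hZdvd).resolve_left hZ1
  have hZeq : Z.subgroupOf Q = center ↥Q := by
    apply Subgroup.eq_of_le_of_card_ge hZcen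
    rw [hcen3, Nat.card_congr (Subgroup.subgroupOfEquivOfLe hZQ).toEquiv, hZ3]
  refine ⟨hZ3, by rw [hQcard]; norm_num, hZQ, hQC, ?_, ?_, ?_, ?_, hCQ, ?_⟩
  · -- normalizer of `Z`
    intro g hg q hq
    have hgC : g ∈ normalizer ((centralizer (Z : Set G) : Subgroup G) : Set G) := by
      have hgZ : g ∈ normalizer (Z : Set G) := mem_normalizer_fintype (S := (Z : Set G)) hg
      apply mem_normalizer_fintype
      intro c hc
      rw [SetLike.mem_coe, Subgroup.mem_centralizer_iff]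
      intro z hz
      have hz' : g⁻¹ * z * g ∈ Z := by
        have := (Subgroup.mem_normalizer_iff.1 ((normalizer (Z : Set G)).inv_mem hgZ) z).1 hz
        simpa using this
      have h1 := Subgroup.mem_centralizer_iff.1 hc _ hz'
      calc z * (g * c * g⁻¹) = g * ((g⁻¹ * z * g) * c) * g⁻¹ := by group
        _ = g * (c * (g⁻¹ * z * g)) * g⁻¹ := by rw [h1]
        _ = g * c * g⁻¹ * z := by group
    rw [hQ] at hq ⊢
    obtain ⟨x, hx, rfl⟩ := hq
    let φ : MulAut ↥(centralizer (Z : Set G)) := (centralizer (Z : Set G)).normalizerMonoidHom ⟨g, hgC⟩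
    have h1 : φ x ∈ Cfsg.pCore 3 ↥(centralizer (Z : Set G)) := by
      have h2 := map_equiv_pCore φ 3
      rw [← h2]
      exact ⟨x, hx, rfl⟩
    exact ⟨φ x, h1, rfl⟩
  · -- commutators
    intro a ha b hb
    have h1 : ⁅(⟨a, ha⟩ : ↥Q), ⟨b, hb⟩⁆ ∈ commutator ↥Q :=
      Subgroup.commutator_mem_commutator (Subgroup.mem_top _) (Subgroup.mem_top _)
    rw [hQex.1.2.2, ← hZeq, Subgroup.mem_subgroupOf] at h1
    exact h1
  · intro a ha hab
    have h1 : (⟨a, ha⟩ : ↥Q) ∈ center ↥Q := by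
      rw [Subgroup.mem_center_iff]
      intro b
      exact Subtype.ext (hab b b.2).symm
    rw [← hZeq, Subgroup.mem_subgroupOf] at h1
    exact h1
  · intro a ha
    have := hQexp a ha
    rw [pow_succ, pow_two] at this
    exact this
  · -- the order of the centralizer
    have h1 := Subgroup.card_mul_index (Cfsg.pCore 3 ↥(centralizer (Z : Set G)))
    have h2 : (Cfsg.pCore 3 ↥(centralizer (Z : Set G))).index = 24 := by
      have : Nat.card (↥(centralizer (Z : Set G)) ⧸ Cfsg.pCore 3 ↥(centralizer (Z : Set G))) = 24 := by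
        rw [Nat.card_congr e.toEquiv, card_S3]
      exact this
    have h3 : Nat.card ↥(Cfsg.pCore 3 ↥(centralizer (Z : Set G))) = 243 := by
      rw [show (243 : ℕ) = 3 ^ 5 by norm_num, ← hQcard, hQ]
      exact Nat.card_congr ((Cfsg.pCore 3 ↥(centralizer (Z : Set G))).equivMapOfInjective _
        (Subgroup.subtype_injective _)).toEquiv
    rw [h2, h3] at h1
    omega

/-- the covering -/
def piOf {Z : Subgroup G} (e : ↥(centralizer (Z : Set G)) ⧸ Cfsg.pCore 3 ↥(centralizer (Z : Set G)) ≃* S3) :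
    ↥(centralizer (Z : Set G)) →* S3 :=
  e.toMonoidHom.comp (QuotientGroup.mk' _)

omit [Finite G] in
theorem cov_of {Z Q : Subgroup G}
    (hQ : Q = (Cfsg.pCore 3 ↥(centralizer (Z : Set G))).map (centralizer (Z : Set G)).subtype)
    (e : ↥(centralizer (Z : Set G)) ⧸ Cfsg.pCore 3 ↥(centralizer (Z : Set G)) ≃* S3) : Cov Z Q (piOf e) := by
  refine ⟨e.surjective.comp (QuotientGroup.mk'_surjective _), ?_⟩
  intro c
  show e (QuotientGroup.mk' _ c) = 1 ↔ _
  rw [map_eq_one_iff _ e.injective, QuotientGroup.mk'_apply, QuotientGroup.eq_one_iff, hQ]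
  constructor
  · intro hc; exact ⟨c, hc, rfl⟩
  · rintro ⟨c', hc', he⟩
    have : c' = c := Subtype.ext he
    rwa [← this]

omit [Finite G] in
/-- `K = C` -/
theorem mem_K {Z : Subgroup G} (e : ↥(centralizer (Z : Set G)) ⧸ Cfsg.pCore 3 ↥(centralizer (Z : Set G)) ≃* S3)
    {c : G} (hc : c ∈ centralizer (Z : Set G)) :
    c ∈ ((Cfsg.pResidual 2 (↥(centralizer (Z : Set G)) ⧸ Cfsg.pCore 3 ↥(centralizer (Z : Set G)))).comap
      (QuotientGroup.mk' (Cfsg.pCore 3 ↥(centralizer (Z : Set G))))).map (centralizer (Z : Set G)).subtype := by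
  refine ⟨⟨c, hc⟩, ?_, rfl⟩
  show QuotientGroup.mk' (Cfsg.pCore 3 ↥(centralizer (Z : Set G))) (⟨c, hc⟩ : ↥(centralizer (Z : Set G))) ∈
    Cfsg.pResidual 2 _
  set x := QuotientGroup.mk' (Cfsg.pCore 3 ↥(centralizer (Z : Set G))) (⟨c, hc⟩ : ↥(centralizer (Z : Set G)))
  have h3 : ∀ g : S3, g * g * g = 1 → e.symm g ∈ Cfsg.pResidual 2 (↥(centralizer (Z : Set G)) ⧸
      Cfsg.pCore 3 ↥(centralizer (Z : Set G))) := by
    intro g hg
    apply Subgroup.subset_closure
    show Nat.Coprime (orderOf (e.symm g)) 2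
    have h1 : orderOf (e.symm g) ∣ 3 := by
      apply orderOf_dvd_of_pow_eq_one
      rw [← map_pow, pow_succ, pow_two, hg, map_one]
    exact Nat.Coprime.coprime_dvd_left h1 (by norm_num)
  have hall : ∀ g : S3, e.symm g ∈ Cfsg.pResidual 2 (↥(centralizer (Z : Set G)) ⧸
      Cfsg.pCore 3 ↥(centralizer (Z : Set G))) := by
    have hne : ∀ g : S3, g ≠ -1 → e.symm g ∈ Cfsg.pResidual 2 (↥(centralizer (Z : Set G)) ⧸
        Cfsg.pCore 3 ↥(centralizer (Z : Set G))) := by
      intro g hg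
      rcases two_three g with h1 | ⟨a, b, ha, hb, rfl⟩
      · exact absurd h1 hg
      · rw [map_mul]; exact Subgroup.mul_mem _ (h3 a ha) (h3 b hb)
    intro g
    by_cases hg : g = -1
    · rw [hg, ← r1, map_mul]
      exact Subgroup.mul_mem _ (hne i0 (by decide)) (hne i0 (by decide))
    · exact hne g hg
  have := hall (e x)
  rwa [e.symm_apply_apply] at this

omit [Finite G] in
theorem cube_trivial {M : Type*} [AddCommGroup M] (h3 : ∀ x : M, x + x + x = 0) {P R : AddSubgroup M} (hPR : P ≤ R)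
    (hidx : P.relIndex R = 3) (φ : AddMonoid.End M) (hφ : ∀ x, φ (φ (φ x)) = x) (hP : ∀ x ∈ P, φ x ∈ P)
    (hR : ∀ x ∈ R, φ x ∈ R) : ∀ x ∈ R, φ x - x ∈ P := by
  let X : AddSubgroup M := R ⊓ P.comap (φ - 1)
  have hm : ∀ x, x ∈ X ↔ x ∈ R ∧ φ x - x ∈ P := fun x => Iff.rfl
  have hPX : P ≤ X := fun x hx => (hm x).2 ⟨hPR hx, P.sub_mem (hP x hx) hx⟩
  have hXR : X ≤ R := fun x hx => hx.1
  have h1 := AddSubgroup.relIndex_mul_relIndex P X R hPX hXR
  rw [hidx] at h1
  have h2 : P.relIndex X ∣ 3 := ⟨_, h1.symm⟩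
  rcases (Nat.dvd_prime Nat.prime_three).1 h2 with h4 | h4
  · exfalso
    have hXP : X ≤ P := AddSubgroup.relIndex_eq_one.1 h4
    have key : ∀ x ∈ R, φ x - x ∈ P → x ∈ P := fun x hx hx' => hXP ((hm x).2 ⟨hx, hx'⟩)
    have hle : R ≤ P := by
      intro x hx
      have hx1 : φ x - x ∈ R := R.sub_mem (hR x hx) hx
      have hx2 : φ (φ x - x) - (φ x - x) ∈ R := R.sub_mem (hR _ hx1) hx1
      apply key x hx
      apply key _ hx1
      apply key _ hx2
      have : φ (φ (φ x - x) - (φ x - x)) - (φ (φ x - x) - (φ x - x)) = 0 := by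
        simp only [map_sub, hφ]
        have h5 := h3 (φ x)
        have h6 := h3 (φ (φ x))
        calc _ = (φ x + φ x + φ x) - (φ (φ x) + φ (φ x) + φ (φ x)) := by abel
          _ = 0 := by rw [h5, h6, sub_zero]
      rw [this]; exact P.zero_mem
    rw [AddSubgroup.relIndex_eq_one.2 hle] at hidx
    omega
  · intro x hx
    rw [h4] at h1
    have h5 : X.relIndex R = 1 := by omega
    exact ((hm x).1 (AddSubgroup.relIndex_eq_one.1 h5 hx)).2

omit [Finite G] in
/-- a chief factor on which `C_G(Z)` acts nontrivially has order at least `9` -/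
theorem nine_le {Z Q : Subgroup G} (h : Cfg Z Q) {π : ↥(centralizer (Z : Set G)) →* S3} (hπ : Cov Z Q π)
    {P R : Subgroup G} (hZP : Z ≤ P) (hPR : P < R) (hRQ : R ≤ Q)
    (hPi : ∀ c ∈ centralizer (Z : Set G), ∀ b ∈ P, c * b * c⁻¹ ∈ P)
    (hRi : ∀ c ∈ centralizer (Z : Set G), ∀ b ∈ R, c * b * c⁻¹ ∈ R)
    (hne : ∃ c ∈ centralizer (Z : Set G), ∃ a ∈ R, c * a * c⁻¹ * a⁻¹ ∉ P) : 9 * Nat.card ↥P ≤ Nat.card ↥R := by
  have hfin := h.finiteQ
  have hmul : Nat.card ↥P * P.relIndex R = Nat.card ↥R := by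
    have h1 := Subgroup.relIndex_mul_relIndex (⊥ : Subgroup G) P R bot_le hPR.le
    rwa [Subgroup.relIndex_bot_left, Subgroup.relIndex_bot_left] at h1
  have hR243 : Nat.card ↥R ∣ 3 ^ 5 := by
    have := Subgroup.card_dvd_of_le hRQ
    rw [h.cardQ] at this
    exact this
  have hidv : P.relIndex R ∣ 3 ^ 5 := (Dvd.intro_left _ hmul).trans hR243
  have h1 : P.relIndex R ≠ 1 := fun h1 => (not_le_of_gt hPR) (Subgroup.relIndex_eq_one.1 h1)
  have h3 : P.relIndex R ≠ 3 := by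
    intro h3
    obtain ⟨c, hc, a, ha, hca⟩ := hne
    apply hca
    have hPR' : barS Q P ≤ barS Q R := Cfg.barS_mono hPR.le
    have hcP := h.card_barS hZP (hPR.le.trans hRQ)
    have hcR := h.card_barS (hZP.trans hPR.le) hRQ
    have hPpos : 0 < Nat.card ↥P := by
      have hfP : Finite ↥P := Finite.of_injective (Subgroup.inclusion (hPR.le.trans hRQ))
        (Subgroup.inclusion_injective _)
      exact Nat.card_pos
    have hidx : (barS Q P).relIndex (barS Q R) = 3 := by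
      have h4 := card_mul_relIndex' hPR'
      rw [h3] at hmul
      rw [← hcP, ← hcR, ← h4] at hmul
      have h5 : 0 < Nat.card ↥(barS Q P) := by
        rw [← hcP] at hPpos
        omega
      have h6 : Nat.card ↥(barS Q P) * (barS Q P).relIndex (barS Q R) = Nat.card ↥(barS Q P) * 3 := by
        nlinarith
      exact Nat.eq_of_mul_eq_mul_left h5 h6
    have hPa := h.barS_inv hZP hPi
    have hRa := h.barS_inv (hZP.trans hPR.le) hRi
    have hPr : ∀ g, ∀ x ∈ barS Q P, h.rho hπ g x ∈ barS Q P := by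
      intro g x hx; obtain ⟨c, rfl⟩ := hπ.surj g; rw [h.rho_pi hπ]; exact hPa c x hx
    have hRr : ∀ g, ∀ x ∈ barS Q R, h.rho hπ g x ∈ barS Q R := by
      intro g x hx; obtain ⟨c, rfl⟩ := hπ.surj g; rw [h.rho_pi hπ]; exact hRa c x hx
    have key3 : ∀ g : S3, g * g * g = 1 → ∀ x ∈ barS Q R, h.rho hπ g x - x ∈ barS Q P := by
      intro g hg
      apply cube_trivial h.three_M hPR' hidx (h.rho hπ g) ?_ (hPr g) (hRr g)
      intro x
      have : h.rho hπ (g * g * g) x = x := by rw [hg, map_one]; rfl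
      rw [map_mul, map_mul] at this
      exact this
    have keym : ∀ g g' : S3, (∀ x ∈ barS Q R, h.rho hπ g x - x ∈ barS Q P) →
        (∀ x ∈ barS Q R, h.rho hπ g' x - x ∈ barS Q P) → ∀ x ∈ barS Q R, h.rho hπ (g * g') x - x ∈ barS Q P := by
      intro g g' hg hg' x hx
      have h5 := AddSubgroup.add_mem _ (hPr g _ (hg' x hx)) (hg x hx)
      rw [map_sub] at h5
      have h6 : h.rho hπ (g * g') x = h.rho hπ g (h.rho hπ g' x) := by rw [map_mul]; rfl
      rw [h6]
      have h7 : h.rho hπ g (h.rho hπ g' x) - x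
          = h.rho hπ g (h.rho hπ g' x) - h.rho hπ g x + (h.rho hπ g x - x) := by abel
      rw [h7]; exact h5
    have hall : ∀ g : S3, ∀ x ∈ barS Q R, h.rho hπ g x - x ∈ barS Q P := by
      have hne1 : ∀ g : S3, g ≠ -1 → ∀ x ∈ barS Q R, h.rho hπ g x - x ∈ barS Q P := by
        intro g hg
        rcases two_three g with h5 | ⟨a, b, ha, hb, rfl⟩
        · exact absurd h5 hg
        · exact keym a b (key3 a ha) (key3 b hb)
      intro g
      by_cases hg : g = -1
      · rw [hg, ← r1]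
        exact keym i0 i0 (hne1 i0 (by decide)) (hne1 i0 (by decide))
      · exact hne1 g hg
    have h8 := hall (π ⟨c, hc⟩) (bar ⟨a, hRQ ha⟩) ((h.bar_mem_barS (hZP.trans hPR.le) _).2 ha)
    rw [h.rho_pi hπ, h.actC_bar ⟨c, hc⟩ ⟨a, hRQ ha⟩ ⟨c * a * c⁻¹, h.normQ' hc (hRQ ha)⟩ rfl, sub_eq_add_neg,
      ← bar_inv, ← bar_mul, h.bar_mem_barS hZP] at h8
    exact h8
  obtain ⟨k, hk, hk'⟩ := (Nat.dvd_prime_pow Nat.prime_three).1 hidv
  have h9 : 9 ≤ P.relIndex R := by
    rw [hk']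
    have : k ≠ 0 := by rintro rfl; exact h1 (by rw [hk', pow_zero])
    have : k ≠ 1 := by rintro rfl; exact h3 (by rw [hk', pow_one])
    calc 9 = 3 ^ 2 := by norm_num
      _ ≤ 3 ^ k := Nat.pow_le_pow_right (by norm_num) (by omega)
  calc 9 * Nat.card ↥P ≤ P.relIndex R * Nat.card ↥P := Nat.mul_le_mul_right _ h9
    _ = Nat.card ↥R := by rw [mul_comm, hmul]

/-- the case `i < j` -/
theorem good_of_chain' {Z Q : Subgroup G} (h : Cfg Z Q) {π : ↥(centralizer (Z : Set G)) →* S3} (hπ : Cov Z Q π)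
    {r : ℕ} {A : Fin (r + 1) → Subgroup G} (hA0 : A 0 = Z) (hAr : A (Fin.last r) = Q)
    (hmono : ∀ i : Fin r, A i.castSucc < A i.succ)
    (hinv : ∀ i : Fin (r + 1), ∀ c ∈ centralizer (Z : Set G), ∀ a ∈ A i, c * a * c⁻¹ ∈ A i)
    (hmax : ∀ i : Fin r, ∀ B : Subgroup G, A i.castSucc < B → B < A i.succ →
      ∃ k ∈ centralizer (Z : Set G), ∃ b ∈ B, k * b * k⁻¹ ∉ B)
    {i j : Fin r} (hij : i < j)
    (hi : ∃ k ∈ centralizer (Z : Set G), ∃ a ∈ A i.succ, k * a * k⁻¹ * a⁻¹ ∉ A i.castSucc)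
    (hj : ∃ k ∈ centralizer (Z : Set G), ∃ a ∈ A j.succ, k * a * k⁻¹ * a⁻¹ ∉ A j.castSucc) : Good h π := by
  have sm : StrictMono A := Fin.strictMono_iff_lt_succ.2 hmono
  have hZA : ∀ l, Z ≤ A l := fun l => by rw [← hA0]; exact sm.monotone (Fin.zero_le l)
  have hAQ : ∀ l, A l ≤ Q := fun l => by rw [← hAr]; exact sm.monotone (Fin.le_last l)
  have h1 := nine_le h hπ (hZA _) (hmono i) (hAQ _) (hinv _) (hinv _) hi
  have h2 := nine_le h hπ (hZA _) (hmono j) (hAQ _) (hinv _) (hinv _) hj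
  have hle : A i.succ ≤ A j.castSucc := sm.monotone (by
    rw [Fin.le_def]; simp; exact hij)
  have c1 : 3 ≤ Nat.card ↥(A i.castSucc) := by
    rw [← h.cardZ]; exact Nat.le_of_dvd Nat.card_pos (Subgroup.card_dvd_of_le (hZA _))
  have c2 : Nat.card ↥(A i.succ) ≤ Nat.card ↥(A j.castSucc) :=
    Nat.le_of_dvd Nat.card_pos (Subgroup.card_dvd_of_le hle)
  have c3 : Nat.card ↥(A j.succ) ≤ 243 := by
    rw [← h.cardQ]; exact Nat.le_of_dvd Nat.card_pos (Subgroup.card_dvd_of_le (hAQ _))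
  have e1 : A i.castSucc = Z := by
    symm
    apply Subgroup.eq_of_le_of_card_ge (hZA _)
    rw [h.cardZ]; omega
  have e2 : A i.succ = A j.castSucc := Subgroup.eq_of_le_of_card_ge hle (by omega)
  have e3 : A j.succ = Q := by
    apply Subgroup.eq_of_le_of_card_ge (hAQ _)
    rw [h.cardQ]; omega
  apply h.good_of hπ (W0 := A i.succ) (hZA _) (hAQ _) (by omega) (hinv _)
  · intro B hZB hBW hB
    by_contra hcon
    push Not at hcon
    obtain ⟨k, hk, b, hb, hkb⟩ := hmax i B (by rw [e1]; exact lt_of_le_of_ne hZB (Ne.symm hcon.1))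
      (lt_of_le_of_ne hBW hcon.2)
    exact hkb (hB k hk b hb)
  · intro B hWB hBQ hB
    by_contra hcon
    push Not at hcon
    obtain ⟨k, hk, b, hb, hkb⟩ := hmax j B (by rw [← e2]; exact lt_of_le_of_ne hWB (Ne.symm hcon.1))
      (by rw [e3]; exact lt_of_le_of_ne hBQ hcon.2)
    exact hkb (hB k hk b hb)

end Cfsg.Agent.H352.L43
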