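import Mathlib
import Cfsg.Agent.H352.L43.Setup
import Cfsg.Agent.H352.L43.GLThree

/-!
# The subgroup `A` of order `27` and `N_G(A) / A ≅ SL(3,3)` (helper352)
-/

set_option autoImplicit false

namespace Cfsg.Agent.H352.L43

open scoped commutatorElement IsMulCommutative
open Subgroup

variable {G : Type*} [Group G]

set_option maxRecDepth 100000 in
theorem sl_norm : ∀ g : S3, g ≠ 1 → g ≠ -1 → ∃ h : S3, (g * (h * g⁻¹ * h⁻¹)) * (g * (h * g⁻¹ * h⁻¹)) = -1 := by
  decide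

/-- the local structure -/
structure Loc43 (Z Q A : Subgroup G) : Prop where
  cfg : Cfg Z Q
  ZA : Z ≤ A
  AQ : A ≤ Q
  cardA : Nat.card ↥A = 27
  commA : ∀ a ∈ A, ∀ b ∈ A, a * b = b * a
  normC : centralizer (Z : Set G) ≤ normalizer (A : Set G)
  centA : centralizer (A : Set G) ≤ A
  trans : ∃ z ∈ Z, z ≠ 1 ∧ ∀ a ∈ A, a ≠ 1 → ∃ n ∈ normalizer (A : Set G), n * z * n⁻¹ = a

variable {Z Q Y R A : Subgroup G}

theorem centA_of (t : Two Z Q Y R) {π : ↥(centralizer (Z : Set G)) →* S3} (hπ : Cov Z Q π) (hg : Good t.h π)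
    (hA : ∀ c ∈ centralizer (Z : Set G), ∀ a ∈ Q ⊓ R, c * a * c⁻¹ ∈ Q ⊓ R) :
    centralizer ((Q ⊓ R : Subgroup G) : Set G) ≤ Q ⊓ R := by
  have h := t.h
  intro x hx
  have hxZ : x ∈ centralizer (Z : Set G) := Subgroup.centralizer_le t.Z_le_A hx
  have hxa : ∀ a ∈ Q ⊓ R, x * a = a * x := fun a ha => (Subgroup.mem_centralizer_iff.1 hx a ha).symm
  suffices hq : x ∈ Q from t.cent_A hq hxa
  set g := π ⟨x, hxZ⟩ with hgdef
  have hinv := h.barS_inv t.Z_le_A hA
  have hrinv : ∀ g : S3, ∀ v ∈ barS Q (Q ⊓ R), h.rho hπ g v ∈ barS Q (Q ⊓ R) := by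
    intro g v hv; obtain ⟨c, rfl⟩ := hπ.surj g; rw [h.rho_pi hπ]; exact hinv c v hv
  have hgN : ∀ v ∈ barS Q (Q ⊓ R), h.rho hπ g v = v := by
    intro v hv
    obtain ⟨a, ha, rfl⟩ := mem_barS.1 hv
    rw [hgdef, h.rho_pi hπ]
    apply h.actC_bar
    have := hxa a ha
    show (a : G) = x * a * x⁻¹
    rw [this]; group
  have hmul : ∀ g g' : S3, ∀ v, h.rho hπ (g * g') v = h.rho hπ g (h.rho hπ g' v) := by
    intro g g' v; rw [map_mul]; rfl
  have hone : ∀ v, h.rho hπ 1 v = v := by intro v; rw [map_one]; rfl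
  have hinvN : ∀ v ∈ barS Q (Q ⊓ R), h.rho hπ g⁻¹ v = v := by
    intro v hv
    have h1 := hgN v hv
    calc h.rho hπ g⁻¹ v = h.rho hπ g⁻¹ (h.rho hπ g v) := by rw [h1]
      _ = v := by rw [← hmul, inv_mul_cancel, hone]
  have hconj : ∀ k : S3, ∀ v ∈ barS Q (Q ⊓ R), h.rho hπ (k * g⁻¹ * k⁻¹) v = v := by
    intro k v hv
    rw [hmul, hmul, hinvN _ (hrinv _ v hv), ← hmul, mul_inv_cancel, hone]
  have hc : ∀ k : S3, ∀ v ∈ barS Q (Q ⊓ R), h.rho hπ (g * (k * g⁻¹ * k⁻¹)) v = v := by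
    intro k v hv
    rw [hmul, hconj k v hv, hgN v hv]
  -- `-1` is not in the kernel
  have hm1 : ¬ ∀ v ∈ barS Q (Q ⊓ R), h.rho hπ (-1) v = v := by
    intro hall
    obtain ⟨y, hy, hy1⟩ := t.exists_y
    have hyA := t.Y_le_A hy
    have h1 := hall (bar ⟨y, hyA.1⟩) ((h.bar_mem_barS t.Z_le_A _).2 hyA)
    obtain ⟨c, hc⟩ := hπ.surj (-1)
    rw [← hc, h.rho_pi hπ, hg.neg c hc] at h1
    have h2 := h.three_M (bar (⟨y, hyA.1⟩ : ↥Q))
    have h3 : bar (⟨y, hyA.1⟩ : ↥Q) = 0 := by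
      nth_rewrite 1 [← h1] at h2
      rw [neg_add_cancel, zero_add] at h2
      exact h2
    exact t.notMem hy hy1 ((h.bar_eq_zero_iff _).1 h3)
  have hg1 : g = 1 := by
    by_contra hne
    by_cases hgm : g = -1
    · apply hm1; rw [← hgm]; exact hgN
    · obtain ⟨k, hk⟩ := sl_norm g hne hgm
      apply hm1
      intro v hv
      rw [← hk, hmul, hc k v hv, hc k v hv]
  exact (hπ.ker ⟨x, hxZ⟩).1 hg1

theorem mem_norm_of [Finite G] {A : Subgroup G} {g : G} (h : ∀ a ∈ A, g * a * g⁻¹ ∈ A) : g ∈ normalizer (A : Set G) :=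
  mem_normalizer_fintype (S := (A : Set G)) h

theorem loc_of [Finite G] (t : Two Z Q Y R) {π : ↥(centralizer (Z : Set G)) →* S3} (hπ : Cov Z Q π)
    (hg : Good t.h π) : Loc43 Z Q (Q ⊓ R) := by
  obtain ⟨hA, y, hy, hy1, hyt⟩ := core t hπ hg
  refine ⟨t.h, t.Z_le_A, inf_le_left, t.card_A, fun a ha b hb => t.comm_A ha hb, ?_, centA_of t hπ hg hA, ?_⟩
  · intro c hc
    exact mem_norm_of (hA c hc)
  · obtain ⟨z, hz, y', hy', hz1, hy'1, g, hgs, h1, h2⟩ := t.exists_swap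
    have hgN : g ∈ normalizer ((Q ⊓ R : Subgroup G) : Set G) := mem_norm_of fun a ha => hgs.mem t ha
    obtain ⟨τ, hτ⟩ := t.exists_tau
    have hτN : τ ∈ normalizer ((Q ⊓ R : Subgroup G) : Set G) := mem_norm_of fun a ha => hτ.sm.mem t ha
    have hCN : ∀ c ∈ centralizer (Z : Set G), c ∈ normalizer ((Q ⊓ R : Subgroup G) : Set G) :=
      fun c hc => mem_norm_of (hA c hc)
    refine ⟨z, hz, hz1, ?_⟩
    -- elements outside `Z`
    have hout : ∀ a ∈ Q ⊓ R, a ∉ Z → ∃ n ∈ normalizer ((Q ⊓ R : Subgroup G) : Set G), n * z * n⁻¹ = a := by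
      intro a ha haZ
      obtain ⟨c, hc, hca⟩ := hyt a ha haZ
      obtain ⟨c', hc', hca'⟩ := hyt y' (t.Y_le_A hy') (t.notMem hy' hy'1)
      -- `z = g y' g⁻¹`, `y' = c' y c'⁻¹`
      refine ⟨c * c'⁻¹ * g⁻¹, mul_mem (mul_mem (hCN c hc) (inv_mem (hCN c' hc'))) (inv_mem hgN), ?_⟩
      calc c * c'⁻¹ * g⁻¹ * z * (c * c'⁻¹ * g⁻¹)⁻¹ = c * c'⁻¹ * (g⁻¹ * z * g) * c' * c⁻¹ := by group
        _ = c * c'⁻¹ * y' * c' * c⁻¹ := by rw [← h2]; group
        _ = a := by rw [← hca', ← hca]; group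
    intro a ha ha1
    by_cases haZ : a ∈ Z
    · rcases Two.eq_or_inv t.h.cardZ haZ hz ha1 hz1 with h3 | h3
      · exact ⟨1, one_mem _, by rw [h3]; group⟩
      · exact ⟨τ, hτN, by rw [h3]; exact hτ.zinv z hz⟩
    · exact hout a ha haZ

namespace Loc43

theorem expA (h : Loc43 Z Q A) {a : G} (ha : a ∈ A) : a * a * a = 1 := h.cfg.exp a (h.AQ ha)

theorem finA (h : Loc43 Z Q A) : Finite ↥A := Nat.finite_of_card_ne_zero (by rw [h.cardA]; norm_num)

theorem card_N [Finite G] (h : Loc43 Z Q A) : Nat.card ↥(normalizer (A : Set G)) = 151632 := by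
  obtain ⟨z, hz, hz1, htr⟩ := h.trans
  have hzA := h.ZA hz
  have hcz : centralizer ({z} : Set G) = centralizer (Z : Set G) := by
    apply le_antisymm
    · intro x hx
      rw [Subgroup.mem_centralizer_singleton_iff] at hx
      rw [Subgroup.mem_centralizer_iff]
      intro w hw
      by_cases hw1 : w = 1
      · rw [hw1]; simp
      rcases Two.eq_or_inv h.cfg.cardZ hw hz hw1 hz1 with h3 | h3
      · rw [h3]; exact hx.symm
      · rw [h3]
        have : Commute x z := hx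
        exact this.symm.inv_left
    · exact Subgroup.centralizer_le (by simpa using hz)
  let N := normalizer (A : Set G)
  -- the action of `N` on `A`
  let ψ : ↥N →* MulAut ↥A := A.normalizerMonoidHom
  let _ : MulAction ↥N ↥A := MulAction.compHom ↥A ψ
  have hsm : ∀ (n : ↥N) (a : ↥A), ((n • a : ↥A) : G) = n * a * (n : G)⁻¹ := fun _ _ => rfl
  have horb : MulAction.orbit ↥N (⟨z, hzA⟩ : ↥A) = {a : ↥A | a ≠ 1} := by
    ext a
    constructor
    · rintro ⟨n, rfl⟩ h1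
      have h2 := congrArg Subtype.val h1
      have h3 : (n : G) * z * (n : G)⁻¹ = 1 := h2
      apply hz1
      have : z = (n : G)⁻¹ * ((n : G) * z * (n : G)⁻¹) * n := by group
      rw [this, h3]; group
    · intro ha
      obtain ⟨n, hn, hna⟩ := htr a a.2 (fun h1 => ha (Subtype.ext h1))
      exact ⟨⟨n, hn⟩, Subtype.ext hna⟩
  have hfin := h.finA
  have hco : Nat.card (MulAction.orbit ↥N (⟨z, hzA⟩ : ↥A)) = 26 := by
    rw [horb]
    have h1 : Nat.card {a : ↥A | a ≠ 1} = Nat.card ↥A - 1 := by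
      have h2 : {a : ↥A | a ≠ 1} = ({1} : Set ↥A)ᶜ := by ext a; simp
      rw [Nat.card_coe_set_eq, h2, Set.ncard_compl, Set.ncard_singleton]
    rw [h1, h.cardA]
  have hst : Nat.card (MulAction.stabilizer ↥N (⟨z, hzA⟩ : ↥A)) = 5832 := by
    have h1 : MulAction.stabilizer ↥N (⟨z, hzA⟩ : ↥A) = (centralizer (Z : Set G)).subgroupOf N := by
      ext n
      rw [MulAction.mem_stabilizer_iff, Subgroup.mem_subgroupOf, ← hcz, Subgroup.mem_centralizer_singleton_iff,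
        Subtype.ext_iff, hsm]
      constructor
      · intro h2
        have h2' : (n : G) * z * (n : G)⁻¹ = z := h2
        calc (n : G) * z = n * z * (n : G)⁻¹ * n := by group
          _ = z * n := by rw [h2']
      · intro h2
        show (n : G) * z * (n : G)⁻¹ = z
        rw [h2]; group
    rw [h1, Nat.card_congr (Subgroup.subgroupOfEquivOfLe h.normC).toEquiv, h.cfg.cardC]
  have h2 := Nat.card_congr (MulAction.orbitEquivQuotientStabilizer ↥N (⟨z, hzA⟩ : ↥A))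
  have h3 := Subgroup.card_mul_index (MulAction.stabilizer ↥N (⟨z, hzA⟩ : ↥A))
  have h4 : (MulAction.stabilizer ↥N (⟨z, hzA⟩ : ↥A)).index = 26 := by
    rw [← hco]; exact h2.symm
  rw [hst, h4] at h3
  exact h3.symm

/-- **`N_G(A) / A ≅ SL(3,3)`** -/
theorem exists_Phi [Finite G] (h : Loc43 Z Q A) : ∃ (E : ↥A ≃ V3) (Φ : ↥(normalizer (A : Set G)) →* SL33),
    (∀ a b, E (a * b) = E a + E b) ∧ Function.Surjective Φ ∧ (∀ n, Φ n = 1 ↔ (n : G) ∈ A) ∧
    ∀ (n : ↥(normalizer (A : Set G))) (a b : ↥A), (b : G) = n * a * (n : G)⁻¹ → E b = (Φ n).1.mulVec (E a) := by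
  obtain ⟨E, hE, θ, hθi, hθ⟩ := exists_theta (A := ↥A) (fun a b => Subtype.ext (h.commA a a.2 b b.2))
    (fun a => Subtype.ext (h.expA a.2)) h.cardA
  let ψ : ↥(normalizer (A : Set G)) →* MulAut ↥A := A.normalizerMonoidHom
  have hker : ∀ n, ψ n = 1 ↔ (n : G) ∈ A := by
    intro n
    have h1 : ψ n = 1 ↔ n ∈ A.normalizerMonoidHom.ker := Iff.rfl
    rw [h1, Subgroup.normalizerMonoidHom_ker, Subgroup.mem_subgroupOf]
    constructor
    · intro h2; exact h.centA h2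
    · intro h2
      rw [Subgroup.mem_centralizer_iff]
      intro a ha
      exact h.commA a ha n h2
  have hrange : Nat.card ↥(θ.comp ψ).range = 5616 := by
    have h1 := Subgroup.card_mul_index (θ.comp ψ).ker
    rw [Subgroup.index_ker, h.card_N] at h1
    have h2 : (θ.comp ψ).ker = A.subgroupOf (normalizer (A : Set G)) := by
      ext n
      rw [MonoidHom.mem_ker, MonoidHom.comp_apply, map_eq_one_iff θ hθi, hker, Subgroup.mem_subgroupOf]
    rw [h2, Nat.card_congr (Subgroup.subgroupOfEquivOfLe A.le_normalizer).toEquiv, h.cardA] at h1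
    omega
  have hdet : ∀ n, (θ (ψ n)).1.det = 1 := fun n => (mem_iff_det hrange _).1 ⟨n, rfl⟩
  let Φ : ↥(normalizer (A : Set G)) →* SL33 :=
    { toFun := fun n => ⟨(θ (ψ n)).1, hdet n⟩
      map_one' := Subtype.ext (by simp)
      map_mul' := fun a b => Subtype.ext (by
        show (θ (ψ (a * b))).1 = (θ (ψ a)).1 * (θ (ψ b)).1
        rw [map_mul, map_mul]; rfl) }
  refine ⟨E, Φ, hE, ?_, ?_, ?_⟩
  · intro s
    have h1 : (Matrix.SpecialLinearGroup.toGL s : GL (Fin 3) (ZMod 3)) ∈ (θ.comp ψ).range :=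
      (mem_iff_det hrange _).2 s.2
    obtain ⟨n, hn⟩ := h1
    refine ⟨n, Subtype.ext ?_⟩
    exact congrArg (fun g : GL (Fin 3) (ZMod 3) => g.1) hn
  · intro n
    rw [← hker, ← map_eq_one_iff θ hθi]
    constructor
    · intro h1
      exact Units.ext (congrArg Subtype.val h1)
    · intro h1
      exact Subtype.ext (congrArg (fun g : GL (Fin 3) (ZMod 3) => g.1) h1)
  · intro n a b hb
    have h1 : b = ψ n a := Subtype.ext hb
    rw [h1]
    exact hθ (ψ n) a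

end Loc43

end Cfsg.Agent.H352.L43
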