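import Mathlib
import Cfsg.Agent.S0249
import Cfsg.Agent.GTwoFour.Tools
import Cfsg.Agent.Lib.CoprimeHyperplane
import Cfsg.Agent.H352.L43.Local

/-!
# `O_3(G) = 1` implies that `G` is simple; otherwise `A = O_3(G)` (helper352)
-/

set_option autoImplicit false

namespace Cfsg.Agent.H352.L43

open Subgroup Cfsg
open Cfsg.Agent.Lib.Cores
open scoped Pointwise

theorem cube_eq_one : ∀ r : ZMod 3, r ^ 3 = 1 → r = 1 := by decide

theorem sl33_simple : IsSimpleGroup SL33 := by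
  have hp : Fact (Nat.Prime 3) := ⟨Nat.prime_three⟩
  have hs := Cfsg.Agent.S0249.result (F := ZMod 3) 3 le_rfl
  have hc : center SL33 = ⊥ := by
    rw [eq_bot_iff]
    intro g hg
    obtain ⟨r, hr, hrg⟩ := Matrix.SpecialLinearGroup.mem_center_iff.1 hg
    have hr1 : r = 1 := by
      rw [Fintype.card_fin] at hr
      exact cube_eq_one r hr
    rw [Subgroup.mem_bot]
    apply Subtype.ext
    rw [← hrg, hr1]; simp
  have e : SL33 ≃* SL33 ⧸ center SL33 :=
    (QuotientGroup.quotientBot (G := SL33)).symm.trans (QuotientGroup.quotientMulEquivOfEq hc.symm)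
  have : IsSimpleGroup (SL33 ⧸ center SL33) := hs
  exact e.isSimpleGroup

variable {G : Type*} [Group G] [Finite G] {Z Q A : Subgroup G}

omit [Finite G] in
theorem inf_eq_bot_of_coprime {F K : Subgroup G} (h : (Nat.card ↥F).Coprime (Nat.card ↥K)) : F ⊓ K = ⊥ := by
  apply Subgroup.eq_bot_of_card_eq
  have h1 : Nat.card ↥(F ⊓ K) ∣ Nat.card ↥F := Subgroup.card_dvd_of_le inf_le_left
  have h2 : Nat.card ↥(F ⊓ K) ∣ Nat.card ↥K := Subgroup.card_dvd_of_le inf_le_right
  exact Nat.eq_one_of_dvd_coprimes h h1 h2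

namespace Loc43

omit [Finite G] in
theorem cop {F : Subgroup G} (hF : ¬ 3 ∣ Nat.card ↥F) (n : ℕ) : (Nat.card ↥F).Coprime (3 ^ n) :=
  Nat.Coprime.pow_right n ((Nat.Prime.coprime_iff_not_dvd Nat.prime_three).2 hF).symm

/-- `O_{3'}(G) = 1` -/
theorem pPrime_trivial (h : Loc43 Z Q A) {F : Subgroup G} (hn : F.Normal) (hF : ¬ 3 ∣ Nat.card ↥F) : F = ⊥ := by
  have hp : Fact (Nat.Prime 3) := ⟨Nat.prime_three⟩
  have hFQ : F ⊓ Q = ⊥ := inf_eq_bot_of_coprime (by
    rw [h.cfg.cardQ, show (243 : ℕ) = 3 ^ 5 by norm_num]; exact cop hF 5)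
  have hFZ : ∀ x ∈ F, x ∈ centralizer (Z : Set G) → x = 1 := by
    intro x hx hxZ
    have hxQ : x ∈ Q := by
      apply h.cfg.CQ
      rw [Subgroup.mem_centralizer_iff]
      intro q hq
      have h1 : x * q * x⁻¹ * q⁻¹ ∈ F := by
        have : x * q * x⁻¹ * q⁻¹ = x * (q * x⁻¹ * q⁻¹) := by group
        rw [this]
        exact F.mul_mem hx (hn.conj_mem _ (F.inv_mem hx) q)
      have h2 : x * q * x⁻¹ * q⁻¹ ∈ Q := Q.mul_mem (h.cfg.normQ' hxZ hq) (Q.inv_mem hq)
      have h3 : x * q * x⁻¹ * q⁻¹ ∈ F ⊓ Q := ⟨h1, h2⟩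
      rw [hFQ, Subgroup.mem_bot] at h3
      calc q * x = (x * q * x⁻¹ * q⁻¹)⁻¹ * (x * q) := by group
        _ = x * q := by rw [h3]; group
    have : x ∈ F ⊓ Q := ⟨hx, hxQ⟩
    rwa [hFQ, Subgroup.mem_bot] at this
  obtain ⟨z, hz, hz1, htr⟩ := h.trans
  have hFa : ∀ a ∈ A, a ≠ 1 → ∀ x ∈ F, x * a = a * x → x = 1 := by
    intro a ha ha1 x hx hxa
    obtain ⟨n, hn', rfl⟩ := htr a ha ha1
    have h1 : n⁻¹ * x * n⁻¹⁻¹ ∈ F := hn.conj_mem x hx n⁻¹
    have h2 : n⁻¹ * x * n⁻¹⁻¹ ∈ centralizer (Z : Set G) := by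
      rw [Subgroup.mem_centralizer_iff]
      have h3 : z * (n⁻¹ * x * n⁻¹⁻¹) = n⁻¹ * x * n⁻¹⁻¹ * z := by
        calc z * (n⁻¹ * x * n⁻¹⁻¹) = n⁻¹ * ((n * z * n⁻¹) * x) * n := by group
          _ = n⁻¹ * (x * (n * z * n⁻¹)) * n := by rw [hxa]
          _ = n⁻¹ * x * n⁻¹⁻¹ * z := by group
      intro w hw
      by_cases hw1 : w = 1
      · rw [hw1]; simp
      rcases Two.eq_or_inv h.cfg.cardZ hw hz hw1 hz1 with h4 | h4
      · rw [h4]; exact h3
      · rw [h4]
        have : Commute z (n⁻¹ * x * n⁻¹⁻¹) := h3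
        exact this.inv_left
    have h3 := hFZ _ h1 h2
    calc x = n * (n⁻¹ * x * n⁻¹⁻¹) * n⁻¹ := by group
      _ = 1 := by rw [h3]; group
  have hEA : Cfsg.IsElementaryAbelian 3 A := by
    refine ⟨⟨⟨fun a b => Subtype.ext (h.commA a a.2 b b.2)⟩⟩, ?_⟩
    intro a ha
    rw [pow_succ, pow_two]; exact h.expA ha
  have hA1 : A ≠ ⊥ := by
    intro h1
    have := h.cardA
    rw [h1] at this; simp at this
  have hgen := Cfsg.Agent.Lib.CoprimeHyperplane.iSup_centralizer_hyperplane hEA hA1 hF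
    (fun a _ => by rw [Subgroup.normalizer_eq_top_iff.2 hn]; trivial)
  rw [← hgen, eq_bot_iff]
  apply iSup_le
  rintro ⟨B, hBA, hBi⟩
  have hBc : Nat.card ↥B = 9 := by
    have h1 := Subgroup.relIndex_mul_relIndex (⊥ : Subgroup G) B A bot_le hBA
    rw [Subgroup.relIndex_bot_left, Subgroup.relIndex_bot_left, hBi, h.cardA] at h1
    omega
  obtain ⟨b, hb, hb1⟩ : ∃ b ∈ B, b ≠ 1 := by
    by_contra hcon
    push Not at hcon
    have : B = ⊥ := by rw [eq_bot_iff]; intro x hx; exact hcon x hx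
    rw [this] at hBc; simp at hBc
  intro x hx
  rw [Subgroup.mem_bot]
  exact hFa b (hBA hb) hb1 x hx.1 (Subgroup.mem_centralizer_iff.1 hx.2 b hb).symm

theorem pPrimeCore_eq (h : Loc43 Z Q A) : Cfsg.pPrimeCore 3 G = ⊥ := by
  apply h.pPrime_trivial (pPrimeCore_normal 3)
  have := pPrimeCore_coprime (G := G) 3
  rw [Nat.coprime_comm, Nat.Prime.coprime_iff_not_dvd Nat.prime_three] at this
  exact this

theorem A_le (h : Loc43 Z Q A) (S : Sylow 3 G)
    (hS : Z = (S : Subgroup G) ⊓ centralizer ((S : Subgroup G) : Set G)) {N : Subgroup G} (hn : N.Normal)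
    (hN : N ≠ ⊥) : A ≤ N := by
  have hp : Fact (Nat.Prime 3) := ⟨Nat.prime_three⟩
  have h3 : 3 ∣ Nat.card ↥N := by
    by_contra hcon
    exact hN (h.pPrime_trivial hn hcon)
  obtain ⟨x, hx⟩ := exists_prime_orderOf_dvd_card' 3 h3
  have hxG : orderOf (x : G) = 3 := by rw [← hx]; exact Subgroup.orderOf_coe x
  have hpg : IsPGroup 3 ↥(zpowers (x : G)) := by
    apply IsPGroup.of_card (n := 1)
    rw [Nat.card_zpowers, hxG, pow_one]
  obtain ⟨P, hP⟩ := hpg.exists_le_sylow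
  obtain ⟨g, hg⟩ := MulAction.exists_smul_eq G P S
  have hxS : g * x * g⁻¹ ∈ (S : Subgroup G) := by
    rw [← hg]
    have h1 : (x : G) ∈ (P : Subgroup G) := hP (Subgroup.mem_zpowers _)
    have h2 : MulAut.conj g • (x : G) ∈ MulAut.conj g • (P : Subgroup G) := Subgroup.smul_mem_pointwise_smul _ _ _ h1
    exact h2
  have hxN : g * x * g⁻¹ ∈ N := hn.conj_mem x x.2 g
  have hne : (N.subgroupOf (S : Subgroup G)) ≠ ⊥ := by
    intro hbot
    have h1 : (⟨g * x * g⁻¹, hxS⟩ : ↥(S : Subgroup G)) ∈ N.subgroupOf (S : Subgroup G) := hxN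
    rw [hbot, Subgroup.mem_bot] at h1
    have h2 : g * x * g⁻¹ = 1 := congrArg Subtype.val h1
    have h4 : (x : G) = 1 := by
      calc (x : G) = g⁻¹ * (g * x * g⁻¹) * g := by group
        _ = 1 := by rw [h2]; group
    rw [h4, orderOf_one] at hxG
    omega
  have hnS : (N.subgroupOf (S : Subgroup G)).Normal := hn.subgroupOf _
  obtain ⟨z, hzN, hzc, hz1⟩ := Cfsg.Agent.GTwoFour.Tools.exists_mem_center_of_normal S.isPGroup' _ hne
  have hzZ : (z : G) ∈ Z := by
    rw [hS]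
    refine ⟨z.2, Subgroup.mem_centralizer_iff.2 ?_⟩
    intro s hs
    exact congrArg Subtype.val (Subgroup.mem_center_iff.1 hzc ⟨s, hs⟩)
  have hz1' : (z : G) ≠ 1 := fun h1 => hz1 (Subtype.ext h1)
  obtain ⟨z0, hz0, hz01, htr⟩ := h.trans
  have hz0N : z0 ∈ N := by
    rcases Two.eq_or_inv h.cfg.cardZ hz0 hzZ hz01 hz1' with h4 | h4
    · rw [h4]; exact hzN
    · rw [h4]; exact N.inv_mem hzN
  intro a ha
  by_cases ha1 : a = 1
  · rw [ha1]; exact N.one_mem
  · obtain ⟨n, _, rfl⟩ := htr a ha ha1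
    exact hn.conj_mem _ hz0N n

/-- a normal subgroup containing `A` meets `N_G(A)` in `A` or contains it -/
theorem normal_cases (h : Loc43 Z Q A) {N : Subgroup G} (hn : N.Normal) (hAN : A ≤ N) :
    (∀ x ∈ N, x ∈ normalizer (A : Set G) → x ∈ A) ∨ normalizer (A : Set G) ≤ N := by
  obtain ⟨E, Φ, hE, hsurj, hker, hact⟩ := h.exists_Phi
  have hsim := sl33_simple
  have hmn : ((N.subgroupOf (normalizer (A : Set G))).map Φ).Normal := (hn.subgroupOf _).map Φ hsurj
  rcases hsim.eq_bot_or_eq_top_of_normal _ hmn with h1 | h1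
  · left
    intro x hx hxA
    rw [← hker ⟨x, hxA⟩]
    have : Φ ⟨x, hxA⟩ ∈ (N.subgroupOf (normalizer (A : Set G))).map Φ := ⟨_, hx, rfl⟩
    rwa [h1, Subgroup.mem_bot] at this
  · right
    intro x hxA
    have : Φ ⟨x, hxA⟩ ∈ (N.subgroupOf (normalizer (A : Set G))).map Φ := by rw [h1]; trivial
    obtain ⟨y, hy, hyx⟩ := this
    have h2 : Φ (⟨x, hxA⟩ * y⁻¹) = 1 := by rw [map_mul, map_inv, hyx, mul_inv_cancel]
    have h3 := (hker _).1 h2
    have h4 : x * (y : G)⁻¹ ∈ N := hAN h3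
    have h5 : x * (y : G)⁻¹ * (y : G) ∈ N := N.mul_mem h4 hy
    rwa [inv_mul_cancel_right] at h5

omit [Finite G] in
/-- `N_G(Z) ≤ N_G(A)` -/
theorem normZ_le (h : Loc43 Z Q A) {g : G} (hg : ∀ z ∈ Z, g * z * g⁻¹ ∈ Z) : g ∈ normalizer (A : Set G) := by
  obtain ⟨z, hz, hz1, htr⟩ := h.trans
  have hzc : ∀ x : G, x * z = z * x → x ∈ normalizer (A : Set G) := by
    intro x hx
    apply h.normC
    rw [Subgroup.mem_centralizer_iff]
    intro w hw
    by_cases hw1 : w = 1
    · rw [hw1]; simp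
    rcases Two.eq_or_inv h.cfg.cardZ hw hz hw1 hz1 with h3 | h3
    · rw [h3]; exact hx.symm
    · rw [h3]
      have : Commute x z := hx
      exact this.symm.inv_left
  have h1 := hg z hz
  have h2 : g * z * g⁻¹ ≠ 1 := by
    intro h3; apply hz1
    calc z = g⁻¹ * (g * z * g⁻¹) * g := by group
      _ = 1 := by rw [h3]; group
  rcases Two.eq_or_inv h.cfg.cardZ h1 hz h2 hz1 with h3 | h3
  · apply hzc
    calc g * z = g * z * g⁻¹ * g := by group
      _ = z * g := by rw [h3]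
  · obtain ⟨n, hn, hnz⟩ := htr z⁻¹ (A.inv_mem (h.ZA hz)) (by simpa using hz1)
    have h4 : n⁻¹ * g ∈ normalizer (A : Set G) := by
      apply hzc
      calc n⁻¹ * g * z = n⁻¹ * (g * z * g⁻¹) * g := by group
        _ = n⁻¹ * (n * z * n⁻¹) * g := by rw [h3, hnz]
        _ = z * (n⁻¹ * g) := by group
    have h5 := (normalizer (A : Set G)).mul_mem hn h4
    rwa [mul_inv_cancel_left] at h5

omit [Finite G] in
theorem S_le (S : Sylow 3 G) (hS : Z = (S : Subgroup G) ⊓ centralizer ((S : Subgroup G) : Set G)) :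
    (S : Subgroup G) ≤ centralizer (Z : Set G) := by
  intro s hs
  rw [Subgroup.mem_centralizer_iff]
  intro z hz
  rw [hS] at hz
  exact (Subgroup.mem_centralizer_iff.1 hz.2 s hs).symm

/-- **If `O_3(G) = 1`, then `G` is simple.** -/
theorem simple (h : Loc43 Z Q A) (S : Sylow 3 G)
    (hS : Z = (S : Subgroup G) ⊓ centralizer ((S : Subgroup G) : Set G)) (h3 : Cfsg.pCore 3 G = ⊥) :
    IsSimpleGroup G := by
  have hp : Fact (Nat.Prime 3) := ⟨Nat.prime_three⟩
  have hAne : A ≠ ⊥ := by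
    intro h1; have := h.cardA; rw [h1] at this; simp at this
  have hntr : Nontrivial G := by
    by_contra hcon
    rw [not_nontrivial_iff_subsingleton] at hcon
    exact hAne (Subsingleton.elim _ _)
  refine { exists_pair_ne := exists_pair_ne G, eq_bot_or_eq_top_of_normal := ?_ }
  intro N hn
  by_contra hcon
  push Not at hcon
  obtain ⟨hN1, hN2⟩ := hcon
  have hAN := h.A_le S hS hn hN1
  rcases h.normal_cases hn hAN with hc | hc
  · -- `N ∩ N_G(A) = A`
    set A' := A.subgroupOf N with hA'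
    have hA'p : IsPGroup 3 ↥A' := by
      apply IsPGroup.of_card (n := 3)
      rw [hA', Nat.card_congr (Subgroup.subgroupOfEquivOfLe hAN).toEquiv, h.cardA]
      norm_num
    obtain ⟨T, hT⟩ := hA'p.exists_le_sylow
    have hnor : ∀ x : ↥N, (∀ a ∈ A', x * a * x⁻¹ ∈ A') → x ∈ A' := by
      intro x hx
      apply hc x x.2
      apply mem_norm_of
      intro a ha
      exact hx ⟨a, hAN ha⟩ ha
    have hTA : (T : Subgroup ↥N) = A' := by
      by_contra hne
      have hlt : A'.subgroupOf (T : Subgroup ↥N) < ⊤ := by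
        rw [lt_top_iff_ne_top]
        intro htop
        apply hne
        apply le_antisymm _ hT
        exact Subgroup.subgroupOf_eq_top.1 htop
      have hnil : Group.IsNilpotent ↥(T : Subgroup ↥N) := T.isPGroup'.isNilpotent
      have h1 := (Group.normalizerCondition_of_isNilpotent (G := ↥(T : Subgroup ↥N))) _ hlt
      obtain ⟨x, hx, hx'⟩ := SetLike.exists_of_lt h1
      apply hx'
      rw [Subgroup.mem_subgroupOf]
      apply hnor
      intro a ha
      have h2 := (Subgroup.mem_normalizer_iff.1 hx ⟨a, hT ha⟩).1 ha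
      exact h2
    have hTn : normalizer ((T : Subgroup ↥N) : Set ↥N) ≤ centralizer ((T : Subgroup ↥N) : Set ↥N) := by
      rw [hTA]
      intro x hx
      have hxA : x ∈ A' := hnor x (fun a ha => (Subgroup.mem_normalizer_iff.1 hx a).1 ha)
      rw [Subgroup.mem_centralizer_iff]
      intro a ha
      exact Subtype.ext (h.commA a ha x hxA)
    have hcomp := MonoidHom.ker_transferSylow_isComplement' T hTn
    have hnd := MonoidHom.not_dvd_card_ker_transferSylow T hTn
    set K := (MonoidHom.transferSylow T hTn).ker with hK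
    have hKle : K ≤ Cfsg.pPrimeCore 3 ↥N := by
      apply le_pPrimeCore (MonoidHom.normal_ker _)
      exact ((Nat.Prime.coprime_iff_not_dvd Nat.prime_three).2 hnd).symm
    have hpp := map_subtype_pPrimeCore (G := G) 3 hn
    rw [h.pPrimeCore_eq, inf_bot_eq, Subgroup.map_eq_bot_iff_of_injective _ (Subgroup.subtype_injective _)] at hpp
    rw [hpp, le_bot_iff] at hKle
    have hTtop : (T : Subgroup ↥N) = ⊤ := by
      rw [hKle] at hcomp
      have := hcomp.sup_eq_top
      rwa [bot_sup_eq] at this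
    have hNA : N = A := by
      apply le_antisymm _ hAN
      intro x hx
      have : (⟨x, hx⟩ : ↥N) ∈ (T : Subgroup ↥N) := by rw [hTtop]; trivial
      rw [hTA] at this
      exact this
    have hle : A ≤ Cfsg.pCore 3 G := by
      apply le_pCore (by rw [← hNA]; exact hn)
      apply IsPGroup.of_card (n := 3)
      rw [h.cardA]; norm_num
    rw [h3, le_bot_iff] at hle
    exact hAne hle
  · -- `N_G(A) ≤ N`
    have hSN : (S : Subgroup G) ≤ N := (S_le S hS).trans (h.normC.trans hc)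
    have hfr := Sylow.normalizer_sup_eq_top' S hSN
    apply hN2
    rw [← hfr, eq_comm, sup_eq_right]
    intro g hg
    apply hc
    apply h.normZ_le
    intro z hz
    rw [hS] at hz ⊢
    refine ⟨(Subgroup.mem_normalizer_iff.1 hg z).1 hz.1, Subgroup.mem_centralizer_iff.2 ?_⟩
    intro s hs
    have h1 : g⁻¹ * s * g ∈ (S : Subgroup G) := by
      have := (Subgroup.mem_normalizer_iff.1 ((normalizer ((S : Subgroup G) : Set G)).inv_mem hg) s).1 hs
      simpa using this
    have h2 := Subgroup.mem_centralizer_iff.1 hz.2 _ h1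
    calc s * (g * z * g⁻¹) = g * ((g⁻¹ * s * g) * z) * g⁻¹ := by group
      _ = g * (z * (g⁻¹ * s * g)) * g⁻¹ := by rw [h2]
      _ = g * z * g⁻¹ * s := by group

/-- **If `O_3(G) ≠ 1`, then `A = O_3(G)`.** -/
theorem eq_core (h : Loc43 Z Q A) (S : Sylow 3 G)
    (hS : Z = (S : Subgroup G) ⊓ centralizer ((S : Subgroup G) : Set G)) (h3 : Cfsg.pCore 3 G ≠ ⊥) :
    A = Cfsg.pCore 3 G := by
  have hp : Fact (Nat.Prime 3) := ⟨Nat.prime_three⟩
  have hAR := h.A_le S hS (pCore_normal 3) h3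
  apply le_antisymm hAR
  have hRP : Cfsg.pCore 3 G ≤ normalizer (A : Set G) := (pCore_le_sylow S).trans ((S_le S hS).trans h.normC)
  rcases h.normal_cases (pCore_normal 3) hAR with hc | hc
  · intro x hx
    exact hc x hx (hRP hx)
  · exfalso
    have h1 := Subgroup.card_dvd_of_le hc
    rw [h.card_N] at h1
    obtain ⟨n, hn⟩ := (IsPGroup.iff_card).1 (pCore_isPGroup (G := G) 3)
    rw [hn] at h1
    have h2 : 2 ∣ 3 ^ n := Dvd.dvd.trans (by norm_num) h1
    have h4 := Nat.Prime.dvd_of_dvd_pow Nat.prime_two h2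
    omega

theorem normalizer_eq_top (h : Loc43 Z Q A) (S : Sylow 3 G)
    (hS : Z = (S : Subgroup G) ⊓ centralizer ((S : Subgroup G) : Set G)) (h3 : Cfsg.pCore 3 G ≠ ⊥) :
    normalizer (A : Set G) = ⊤ := by
  rw [h.eq_core S hS h3]
  exact Subgroup.normalizer_eq_top_iff.2 (pCore_normal 3)

end Loc43

end Cfsg.Agent.H352.L43
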