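import Cfsg.Agent.H352.L43.Split
import Cfsg.Agent.H352.L43.Embed
import Cfsg.Agent.H352.L43.Simple

/-!
# The parabolic case (helper352)
-/

set_option autoImplicit false

namespace Cfsg.Agent.H352.L43

open Subgroup
open Cfsg.Agent.Lib.Cores

variable {G : Type*} [Group G] {Z Q A : Subgroup G}

/-- **If `O_3(G) ≠ 1`, then `G` is a maximal parabolic subgroup of `PSL(4,3)`.** -/
theorem Loc43.parabolic [Finite G] (h : Loc43 Z Q A) {π : ↥(centralizer (Z : Set G)) →* S3} (hπ : Cov Z Q π)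
    (hg : Good h.cfg π) (S : Sylow 3 G)
    (hS : Z = (S : Subgroup G) ⊓ centralizer ((S : Subgroup G) : Set G)) (h3 : Cfsg.pCore 3 G ≠ ⊥) :
    ∃ (P : Subgroup PSL43),
      IsCoatom P ∧ Nat.card (Cfsg.pCore 3 P) = 27 ∧
      Nonempty (P ⧸ Cfsg.pCore 3 P ≃* SL33) ∧ Nonempty (G ≃* P) := by
  have hN := h.normalizer_eq_top S hS h3
  have hA := h.eq_core S hS h3
  obtain ⟨H, hH⟩ := h.exists_complement hπ hg hN
  have hAn : A.Normal := Subgroup.normalizer_eq_top_iff.1 hN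
  obtain ⟨E, Φ, hE, hΦs, hΦk, hΦ⟩ := h.exists_Phi
  have hcard : Nat.card G = 151632 := by
    have := h.card_N
    rw [hN, Subgroup.card_top] at this
    exact this
  let ι : G →* ↥(normalizer (A : Set G)) :=
    { toFun := fun g => ⟨g, by rw [hN]; trivial⟩
      map_one' := rfl
      map_mul' := fun _ _ => rfl }
  have hιs : Function.Surjective ι := fun x => ⟨x, rfl⟩
  obtain ⟨P, hP, ⟨f⟩⟩ := exists_parabolic hcard hAn hH E (Φ.comp ι) hE (fun g => hΦk (ι g))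
    (fun g a b hab => hΦ (ι g) a b hab)
  have hm := map_equiv_pCore f 3
  refine ⟨P, hP, ?_, ?_, ⟨f⟩⟩
  · rw [← hm, ← hA, ← h.cardA]
    exact Nat.card_congr (A.equivMapOfInjective f.toMonoidHom f.injective).toEquiv.symm
  · have hk : (Φ.comp ι).ker = Cfsg.pCore 3 G := by
      rw [← hA]; ext g; exact hΦk (ι g)
    have e1 : G ⧸ (Φ.comp ι).ker ≃* SL33 :=
      QuotientGroup.quotientKerEquivOfSurjective (Φ.comp ι) (hΦs.comp hιs)
    have e2 : G ⧸ Cfsg.pCore 3 G ≃* G ⧸ (Φ.comp ι).ker := QuotientGroup.quotientMulEquivOfEq hk.symm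
    have e3 : G ⧸ Cfsg.pCore 3 G ≃* ↥P ⧸ Cfsg.pCore 3 ↥P := QuotientGroup.congr _ _ f hm
    exact ⟨(e3.symm.trans e2).trans e1⟩

end Cfsg.Agent.H352.L43
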